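import Cfsg.Agent.HNR.AbsD

/-! A class of involutions fixing unique points, with a weaker hypothesis on `5`-elements. -/

set_option autoImplicit false

namespace Cfsg.Agent.HNS

open Subgroup Cfsg.Agent.Inv Cfsg.Agent.XSC HNR

theorem card_dvd_of_right {K : Type*} [Group K] (W : Subgroup K) (E : Set K)
    (h1 : ∀ y ∈ E, ∀ l ∈ W, y * l ∈ E) : Nat.card W ∣ E.ncard := by
  let : MulAction W E :=
    { smul := fun l y => ⟨y * (l : K)⁻¹, h1 _ y.2 _ (inv_mem l.2)⟩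
      one_smul := fun y => Subtype.ext (by change y * (1 : K)⁻¹ = y; simp)
      mul_smul := fun a b y => Subtype.ext (by
        change y * (a * b : K)⁻¹ = y * (b : K)⁻¹ * (a : K)⁻¹; group) }
  rw [← Nat.card_coe_set_eq, Nat.card_congr (MulAction.selfEquivOrbitsQuotientProd (G := W)
    fun y : E => eq_bot_iff.2 fun l hl => Subtype.ext (inv_eq_one.1
      (mul_eq_left.1 (show (y : K) * (l : K)⁻¹ = y from congrArg Subtype.val (MulAction.mem_stabilizer_iff.1 hl))))), Nat.card_prod]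
  exact dvd_mul_left _ _

theorem eq_top_of_counts' {K : Type*} [Group K] [Finite K] {L A : Subgroup K} {z : K}
    (z2 : z * z = 1) (z1 : z ≠ 1) (hC : centralizer ({z} : Set K) ≤ L)
    (hf : ∀ x ∈ L, IsConj z x → ∃ k ∈ L, k * z * k⁻¹ = x) (hAL : A ≤ L)
    (hn : ∀ k ∈ L, ∀ x ∈ A, k * x * k⁻¹ ∈ A) (hA2 : ∀ x ∈ A, x * x = 1) (zA : z ∈ A)
    (cA : Nat.card A = 256) (c60 : {x | x ∈ A ∧ IsConj z x}.ncard = 60)
    (c12 : ∀ l ∈ A, l ≠ 1 → ¬ IsConj z l →
      {x | (x ∈ A ∧ IsConj z x) ∧ IsConj z (x * l)}.ncard = 12)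
    (c5 : ∀ d ∈ L, ∀ n, d ^ 5 ^ n = 1 → d * z ≠ z * d →
      {x | x ∈ A ∧ ¬ IsConj z x ∧ d * x = x * d}.ncard < 16) :
    L = ⊤ := by
  by_contra hL
  have := Fact.mk Nat.prime_two
  have nc : ∀ H : Subgroup K, (H : Set K).ncard = Nat.card H := fun H =>
    (Nat.card_coe_set_eq _).symm
  have hm : ∀ x : K, x • ((1 : K) : K ⧸ L) = (1 : K) ↔ x ∈ L := fun x => by
    change ((x * 1 : K) : K ⧸ L) = (1 : K) ↔ _
    rw [QuotientGroup.eq]; simp
  have hu : ∀ x, IsConj z x → ∀ p q : K ⧸ L, x • p = p → x • q = q → p = q :=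
    fun x hx => fix_unique hC hf hx
  have htr : ∀ c : K ⧸ L, ∃ g : K, g • ((1 : K) : K ⧸ L) = c := fun c => by
    obtain ⟨g, rfl⟩ := QuotientGroup.mk_surjective c
    exact ⟨g, congrArg _ (mul_one g)⟩
  generalize ((1 : K) : K ⧸ L) = a at hm htr
  have cj : ∀ {x} (g : K), IsConj z x → IsConj z (g * x * g⁻¹) := fun g h =>
    h.trans (isConj_iff.2 ⟨g, rfl⟩)
  have hA : ∀ x, IsConj z x → x ∈ L → x ∈ A := fun x hx h => by
    obtain ⟨k, hk, rfl⟩ := hf x h hx
    exact hn k hk z zA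
  have cm : ∀ x ∈ A, ∀ y ∈ A, Commute x y := fun x hx y hy => by
    have e := hA2 _ (mul_mem hx hy)
    rw [mul_eq_one_iff_eq_inv, mul_inv_rev, inv_eq_of_mul_eq_one_left (hA2 x hx),
      inv_eq_of_mul_eq_one_left (hA2 y hy)] at e
    exact e
  have key : ∀ g : K, g • a ≠ a → ∀ l ∈ A, l • g • a = g • a → l = 1 := by
    intro g hg
    have fx : ∀ {y}, y • g • a = g • a ↔ g⁻¹ * y * g ∈ L := fun {y} => by
      rw [← hm, mul_smul, mul_smul, inv_smul_eq_iff]
    let B := A.comap (MulAut.conj g⁻¹).toMonoidHom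
    have mB : ∀ {y}, y ∈ B ↔ g⁻¹ * y * g ∈ A := fun {y} => by simp [B]
    have hB : ∀ y, IsConj z y → y • g • a = g • a → y ∈ B := fun y hy h =>
      mB.2 (hA _ (by simpa using cj g⁻¹ hy) (fx.1 h))
    have cB : ∀ x ∈ B, ∀ y ∈ B, Commute x y := fun x hx y hy => by
      simpa [mul_assoc] using (cm _ (mB.1 hx) _ (mB.1 hy)).map (MulAut.conj g)
    have nE : ∀ x ∈ A, x • g • a = g • a → ¬ IsConj z x := fun x hx h1 h2 =>
      hg (hu x h2 _ _ h1 ((hm x).2 (hAL hx)))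
    have sw : ∀ x ∈ A, IsConj z x → ∀ y, IsConj z y → y • g • a = g • a → ∃ v ∈ A ⊓ B, ∃ w : K,
        (∀ l, Commute l x → Commute l y → Commute l w) ∧ w • a = g • a ∧ w • g • a = a ∧
        w * (v * x) * w⁻¹ = y := fun x hx x1 y y1 y2 => by
      have mv : ∀ v, IsConj z (v * x) → v • a = a → v ∈ A := fun v h1 h2 =>
        (mul_mem_cancel_right hx).1 (hA _ h1 (mul_mem ((hm v).1 h2) (hAL hx)))
      obtain ⟨v, w, h1, h2, h3, h4, h5, h6, h7, h8⟩ := exists_swap' z2 hu x1 y1 ((hm x).2 (hAL hx)) y2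
        fun v h1 h2 => hA2 v (mv v h1 h2)
      exact ⟨v, ⟨mv v h2 h4, (mul_mem_cancel_right (hB y y1 y2)).1
        (hB _ h3 (by rw [mul_smul, y2, h5]))⟩, w, fun l e1 e2 => (h1 l e1 e2).2, h6, h7, h8⟩
    have y1 : IsConj z (g * z * g⁻¹) := cj g (IsConj.refl z)
    have y2 : (g * z * g⁻¹) • g • a = g • a := fx.2 (by simpa [mul_assoc] using hAL zA)
    have tr : ∀ x ∈ A, IsConj z x → ∃ d ∈ L, d • g • a = g • a ∧ (∀ l ∈ A ⊓ B, Commute l d) ∧
        ∃ l ∈ A ⊓ B, d * z * d⁻¹ = l * x := fun x hx x1 => by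
      obtain ⟨v, hv, w, h1, h2, h3, h4⟩ := sw z zA (IsConj.refl z) _ y1 y2
      obtain ⟨v', hv', w', h1', h2', h3', h4'⟩ := sw x hx x1 _ y1 y2
      have c : ∀ l ∈ A ⊓ B, Commute l (w'⁻¹ * w) := fun l hl =>
        (h1' l (cm l hl.1 x hx) (cB l hl.2 _ (hB _ y1 y2))).inv_right.mul_right
          (h1 l (cm l hl.1 z zA) (cB l hl.2 _ (hB _ y1 y2)))
      refine ⟨w'⁻¹ * w, (hm _).1 (by rw [mul_smul, h2, inv_smul_eq_iff, h2']),
        by rw [mul_smul, h3, inv_smul_eq_iff, h3'], c, v⁻¹ * v', mul_mem (inv_mem hv) hv', ?_⟩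
      calc _ = v⁻¹ * (v * (w'⁻¹ * w)) * z * (w'⁻¹ * w)⁻¹ := by group
        _ = v⁻¹ * w'⁻¹ * (w * (v * z) * w⁻¹) * w' := by rw [(c v hv).eq]; group
        _ = _ := by rw [h4, ← h4']; group
    have fI : ∀ l ∈ A ⊓ B, l • g • a = g • a := fun l hl => fx.2 (hAL (mB.1 hl.2))
    obtain ⟨I, hI⟩ : ∃ I, I = A ⊓ B := ⟨_, rfl⟩
    rw [← hI] at tr fI
    have IA : I ≤ A := hI ▸ inf_le_left
    have cj' : ∀ {x} (g : K), IsConj z (g * x * g⁻¹) ↔ IsConj z x := fun g =>
      ⟨fun h => by simpa [mul_assoc] using cj g⁻¹ h, cj g⟩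
    have cnt : ∀ x ∈ A, IsConj z x → {l | l ∈ I ∧ IsConj z (x * l)}.ncard =
        {l | l ∈ I ∧ IsConj z (z * l)}.ncard := fun x hx x1 => by
      obtain ⟨d, -, -, d1, l0, l1, e⟩ := tr x hx x1
      refine ncard_shift l0 fun l => (and_congr_left' (mul_mem_cancel_left l1)).trans
        (and_congr_right fun hl => ?_)
      rw [← cj' (x := z * l) d, ← conj_mul, e, ← (d1 l hl).eq, mul_inv_cancel_right, ← mul_assoc,
        (cm x hx l0 (IA l1)).eq]
    have c1 := ncard_mul_eq {x | x ∈ A ∧ IsConj z x} ((I : Set K) \ {1})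
      (fun x l => IsConj z (x * l)) (m := {l | l ∈ I ∧ IsConj z (z * l)}.ncard - 1) (n := 12)
      (fun x hx => by
        rw [← cnt x hx.1 hx.2, ← Set.ncard_sdiff_singleton_of_mem (a := 1)
          (s := {l | l ∈ I ∧ IsConj z (x * l)}) ⟨one_mem _, by simpa using hx.2⟩]
        congr 1; ext; simp only [Set.mem_ofPred_eq, Set.mem_sdiff, SetLike.mem_coe]; tauto)
      fun l hl => c12 l (IA hl.1) hl.2 (nE l (IA hl.1) (fI l hl.1))
    rw [c60, Set.ncard_sdiff_singleton_of_mem (SetLike.mem_coe.2 I.one_mem), nc] at c1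
    obtain ⟨i, hi, e⟩ := (Nat.dvd_prime_pow (m := 8) Nat.prime_two).1
      (show Nat.card I ∣ 256 from cA ▸ card_dvd_of_le IA)
    have hi' : i = 0 ∨ i = 4 ∨ i = 8 := by
      rw [e] at c1
      interval_cases i <;> omega
    rcases hi' with rfl | rfl | rfl
    · intro l hl l1
      by_contra l2
      rw [pow_zero, card_eq_one] at e
      let W := A ⊓ MulAction.stabilizer K (g • a)
      have h1 := card_dvd_of_free W {y | IsConj z y ∧ y • g • a = g • a}
        (fun l hl y hy => ⟨cj l hy.1, by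
          rw [mul_smul, mul_smul, inv_smul_eq_iff.2 hl.2.symm, hy.2, hl.2]⟩)
        fun l hl y hy f => by
          obtain ⟨v, -, w, h1, h2, -, -⟩ := sw z zA (IsConj.refl z) y hy.1 hy.2
          have h3 := hn (g⁻¹ * w) ((hm _).1 (by rw [mul_smul, h2, inv_smul_smul])) l hl.1
          rw [mul_assoc g⁻¹, ← (h1 l (cm l hl.1 z zA) f).eq, mul_inv_rev, inv_inv, mul_assoc,
            mul_assoc, mul_inv_cancel_left, ← mul_assoc] at h3
          exact mem_bot.1 (e ▸ hI ▸ ⟨hl.1, mB.2 h3⟩ : l ∈ ⊥)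
      rw [show {y | IsConj z y ∧ y • g • a = g • a} =
          (MulAut.conj g) '' {x | x ∈ A ∧ IsConj z x} from Set.ext fun y =>
        ⟨fun hy => ⟨g⁻¹ * y * g, ⟨mB.1 (hB y hy.1 hy.2), by simpa using cj g⁻¹ hy.1⟩,
          by simp [mul_assoc]⟩, fun ⟨x, hx, f⟩ => f ▸ ⟨cj g hx.2, fx.2 (by
            simpa [mul_assoc] using hAL hx.1)⟩⟩,
        Set.ncard_image_of_injective _ (MulAut.conj g).injective, c60] at h1
      have h2 : Nat.card W ≤ 4 := Nat.le_of_dvd (by decide)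
        (Nat.dvd_gcd h1 (cA ▸ card_dvd_of_le inf_le_left : Nat.card W ∣ 256))
      obtain ⟨x1, ⟨x2, x3⟩, x4⟩ := Set.nonempty_of_ncard_ne_zero
        (by rw [c12 l hl l2 (nE l hl l1)]; decide)
      have h3 := ncard_mul_le {x | x ∈ A ∧ IsConj z x} ((W : Set K) \ {1})
        (fun x l => IsConj z (x * l)) (m := 1) (n := 12) (fun x hx => by
          obtain ⟨d, d1, d2, -, l0, l3, f⟩ := tr x hx.1 hx.2
          obtain ⟨d', d1', d2', -, l0', l3', f'⟩ := tr x1 x2 x3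
          rw [e, mem_bot] at l3 l3'
          rw [l3, one_mul] at f
          rw [l3', one_mul] at f'
          have d3 : (d * d'⁻¹) • g • a = g • a := by rw [mul_smul, inv_smul_eq_iff.2 d2'.symm, d2]
          refine (Set.ncard_pos (Set.toFinite _)).2 ⟨d * d'⁻¹ * l * (d * d'⁻¹)⁻¹,
            ⟨⟨hn _ (mul_mem d1 (inv_mem d1')) l hl, ?_⟩, mt conj_eq_one_iff.1 l2⟩, ?_⟩
          · change _ • _ = _
            rw [mul_smul, mul_smul, inv_smul_eq_iff.2 d3.symm, l1, d3]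
          · convert cj (d * d'⁻¹) x4 using 1
            rw [← f, ← f']; group)
        fun l hl => (c12 l hl.1.1 hl.2 (nE l hl.1.1 hl.1.2)).le
      rw [c60, Set.ncard_sdiff_singleton_of_mem (SetLike.mem_coe.2 W.one_mem), nc] at h3
      omega
    · exfalso
      have c2 := ncard_mul_eq ((L ⊓ centralizer I : Subgroup K) : Set K) {x | x ∈ A ∧ IsConj z x}
        (fun d x => (d * z * d⁻¹)⁻¹ * x ∈ I) (m := {l | l ∈ I ∧ IsConj z (z * l)}.ncard)
        (n := {d | d ∈ ((L ⊓ centralizer I : Subgroup K) : Set K) ∧ (d * z * d⁻¹)⁻¹ * z ∈ I}.ncard)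
        (fun d hd => by
          have h1 := hn d hd.1 z zA
          rw [← cnt _ h1 (cj d (IsConj.refl z))]
          refine ncard_shift (d * z * d⁻¹) fun l => ?_
          simp only [Set.mem_ofPred_eq, inv_mul_cancel_left]
          exact ⟨fun h => ⟨h.2, h.1.2⟩, fun h => ⟨⟨mul_mem h1 (IA h.1), h.2⟩, h.1⟩⟩)
        fun x hx => by
          obtain ⟨d, d1, -, d2, l0, l1, f⟩ := tr x hx.1 hx.2
          refine ncard_shift d fun c => and_congr (mul_mem_cancel_left (H := L ⊓ centralizer I)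
            ⟨d1, fun l hl => (d2 l hl).eq⟩) ?_
          rw [show (d * c * z * (d * c)⁻¹)⁻¹ * x = d * ((c * z * c⁻¹)⁻¹ * z) * d⁻¹ *
              ((d * z * d⁻¹)⁻¹ * x) by group, f, mul_inv_rev l0, mul_assoc x⁻¹,
            ← (cm x hx.1 _ (inv_mem (IA l1))).eq, inv_mul_cancel_left,
            mul_mem_cancel_right (inv_mem l1)]
          generalize (c * z * c⁻¹)⁻¹ * z = j
          refine ⟨fun h => ?_, fun h => by rwa [← (d2 j h).eq, mul_inv_cancel_right]⟩
          have := (d2 _ h).eq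
          rw [inv_mul_cancel_right, mul_right_inj] at this
          rwa [this]
      rw [c60, nc] at c2
      have : Fact (Nat.Prime 5) := ⟨by norm_num⟩
      obtain ⟨P⟩ : Nonempty (Sylow 5 (L ⊓ centralizer I : Subgroup K)) := inferInstance
      obtain ⟨d, dP, hd⟩ : ∃ d ∈ (P : Subgroup (L ⊓ centralizer I : Subgroup K)),
          (d : K) * z ≠ z * d := by
        by_contra hc
        push Not at hc
        obtain ⟨s, hs⟩ := card_dvd_of_right (P.1.map (Subgroup.subtype _))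
          {d | d ∈ ((L ⊓ centralizer I : Subgroup K) : Set K) ∧ (d * z * d⁻¹)⁻¹ * z ∈ I} (by
            rintro y hy _ ⟨p, hp, rfl⟩
            refine ⟨mul_mem hy.1 p.2, ?_⟩
            change (y * p * z * (y * p)⁻¹)⁻¹ * z ∈ I
            rw [mul_assoc y, hc p hp, show y * (z * p) * (y * p)⁻¹ = y * z * y⁻¹ by group]
            exact hy.2)
        rw [show {l | l ∈ I ∧ IsConj z (z * l)}.ncard = 4 by rw [e] at c1; omega, hs,
          card_map_of_injective (Subgroup.subtype_injective _), ← P.1.card_mul_index] at c2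
        refine P.not_dvd_index ⟨3 * s, Nat.eq_of_mul_eq_mul_left (Nat.card_pos (α := P.1)) ?_⟩
        linarith
      obtain ⟨n, hn'⟩ := P.2 ⟨d, dP⟩
      have h1 := c5 d d.2.1 n (congrArg (fun x : P.1 => ((x : (L ⊓ centralizer I : Subgroup K)) : K)) hn') hd
      have h2 := Set.ncard_le_ncard (show (I : Set K) ⊆
        {x | x ∈ A ∧ ¬ IsConj z x ∧ d * x = x * d} from fun l hl =>
          ⟨IA hl, nE l (IA hl) (fI l hl), (d.2.2 l hl).symm⟩)
      rw [nc, e] at h2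
      omega
    · exact absurd (IsConj.refl z) (nE z zA (fI z (eq_of_le_of_card_ge IA (by rw [e, cA]; decide) ▸ zA)))
  obtain ⟨O, h1, h2, h3⟩ := exists_odd_of_ne_top (orderOf_eq_prime (by rw [pow_two, z2]) z1) hC hf
    (fun y e1 e2 e3 => by
      have h1 := hA y e1 (hC (mem_centralizer_singleton_iff.2 e2.eq.symm))
      have h2 : ∀ c : K ⧸ L, (z * y) • c = c → c = a := fun c hc => by_contra fun hne => by
        obtain ⟨g, rfl⟩ := htr c
        exact e3 ((eq_inv_of_mul_eq_one_right (key g hne _ (mul_mem zA h1) hc)).trans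
          (inv_eq_of_mul_eq_one_left z2))
      exact fun c c' e e' => (h2 c e).trans (h2 c' e').symm) hL
  have h4 := ncard_dvd_of_trans O z
  rw [show {x | ∃ o ∈ O, o * z * o⁻¹ = x} = {x | x ∈ A ∧ IsConj z x} from Set.ext fun x =>
    ⟨fun ⟨o, ho, e⟩ => e ▸ ⟨hn o (h1 ho) z zA, cj o (IsConj.refl z)⟩, fun ⟨e1, e2⟩ => by
      obtain ⟨k, hk, rfl⟩ := hf x (hAL e1) e2
      exact h3 k hk⟩, c60] at h4
  exact absurd (h2.of_dvd_nat h4) (by decide)

end Cfsg.Agent.HNS
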