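import Cfsg.Agent.HNS.St3
import Cfsg.Agent.HNR.Gen

/-! The centraliser of the involution is generated by `M` and an element of order four. -/

set_option autoImplicit false
set_option maxRecDepth 100000

namespace Cfsg.Agent.HNS

open Subgroup Cfsg.Agent.Comp HNR HNR.DH

local notation "𝟙" => MonoidHom.id M
local notation "t" => l 34
local notation "u" => l 40

theorem six_M {m : M} (h2 : m * u = u * m) (h3 : m * l 78 = l 78 * m) (mm : m * m = 1) :
    m = 1 ∨ m = u ∨ (∃ x, (x = l 8 ∨ x = u) ∧ (IsConj x m ∨ IsConj x (m * u))) ∨ m = t ∨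
      m = t * u ∨ (IsConj (l 60 * l 8) m ∧
        (m = l 82 ∨ m = l 82 * u ∨ m = l 82 * t ∨ m = l 82 * t * u)) := by
  obtain ⟨n, c, hc, e⟩ := emb_id.sol1 SH (by decide +kernel) (g := m) (tc m) (by
    simp only [SH_as, List.forall_mem_cons]; exact ⟨h2, h3, by simp⟩)
  obtain ⟨g, hg⟩ := exists_of_all2 (show all2 (fun c g => and' (eqP E bs KA (powW c 4) [])
    (or' (neP E bs KA (appendR c c) []) (or' (eqP E bs KA c []) (or' (eqP E bs KA c [40])
      (or' (anyL [[8], [40]] fun r => or' (eqP E bs KA (appendR g r) (appendR c g))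
        (eqP E bs KA (appendR g r) (appendR (appendR c [40]) g)))
      (anyL [[34], [34, 40], [82], [82, 40], [82, 34], [82, 34, 40]] (eqP E bs KA c)))))))
    SH_cs [[], [], [], [], [], [], [], [0], [0], [], [8, 23, 12, 18, 28, 22, 22],
      [1, 10, 32, 19, 16, 23, 30, 28], [11, 5, 30, 17, 18, 25, 28], [1, 10, 32, 19, 16, 23, 30, 28],
      [], [], [], [], [], [], [], [], [], [], [], [], [], [], [5, 29, 12, 20, 18, 26, 23],
      [29, 4, 25, 16, 18, 24, 22, 32], [13, 11, 5, 30, 18, 27, 28],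
      [29, 4, 25, 16, 18, 24, 22, 32]] = true by decide +kernel) hc
  simp only [and'_eq_true, or'_eq_true, anyL_iff] at hg
  have e1 : m = P 𝟙 c := by
    have c4 := gpow 𝟙 c 4 hg.1
    have H3 : (l 78 ^ n) ^ 3 = 1 := by
      rw [← zpow_natCast, ← zpow_mul, mul_comm, zpow_mul, zpow_natCast,
        show l 78 ^ 3 = 1 from gpow 𝟙 [78] 3, one_zpow]
    change l 78 ^ n * m = _ at e
    rw [← e, ((show Commute m (l 78) from h3).zpow_right n).symm.mul_pow, pow_succ, H3,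
      show m ^ 4 = m * m * (m * m) by simp only [pow_succ, pow_zero, one_mul, mul_assoc], mm] at c4
    rw [← e, show l 78 ^ n = 1 by simpa using c4, one_mul]
  subst e1
  rcases hg.2 with f | f | f | ⟨r, hr, f⟩ | ⟨r, hr, f⟩
  · exact absurd (by rw [appendR_eq, P_append]; exact mm) (emb_id.ne _ _ f)
  · exact .inl (gq 𝟙 _ _ f)
  · exact .inr (.inl (gq 𝟙 _ _ f))
  · refine .inr (.inr (.inl ⟨P 𝟙 r, ?_, f.imp (fun f => gcj 𝟙 _ _ _ f) fun f => ?_⟩))
    · simp only [List.mem_cons, List.not_mem_nil, or_false] at hr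
      exact hr.imp (congrArg _) (congrArg _)
    · have := gcj 𝟙 _ _ _ f
      rwa [appendR_eq, P_append] at this
  · rw [gq 𝟙 _ _ f]
    simp only [List.mem_cons, List.not_mem_nil, or_false] at hr
    refine .inr (.inr (.inr ?_))
    rcases hr with rfl | rfl | rfl | rfl | rfl | rfl
    exacts [.inl rfl, .inr (.inl rfl),
      .inr (.inr ⟨gcj 𝟙 [17, 4, 1, 26, 22, 19, 27, 23, 29] [60, 8] [82], .inl rfl⟩),
      .inr (.inr ⟨gcj 𝟙 [19, 10, 0, 22, 16, 18, 28, 24, 28, 28] [60, 8] _, .inr (.inl rfl)⟩),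
      .inr (.inr ⟨gcj 𝟙 [1, 27, 12, 25, 14, 22, 22, 28] [60, 8] _, .inr (.inr (.inl rfl))⟩),
      .inr (.inr ⟨gcj 𝟙 [27, 12, 25, 14, 22, 22, 28] [60, 8] _, .inr (.inr (.inr rfl))⟩)]

theorem even_of_conj {a b : M} (h : IsConj a b) (ha : a ∈ K0) : b ∈ K0 := by
  obtain ⟨g, rfl⟩ := isConj_iff.1 h
  exact cjK g ha

variable {G : Type*} [Group G]

/-- the centraliser of `T` is generated by `M` and `r` -/
structure E4 (ι : M →* G) (r : G) : Prop where
  inj : Function.Injective ι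
  rr : r * r = ι t
  rc : ∀ a ∈ K0, r * ι a = ι a * r
  cen : ∀ g, g * ι t = ι t * g → ∃ m, g = ι m ∨ g = ι m * r
  hj : IsConj (ι u * ι t) (ι t)

variable {ι : M →* G} {r : G}

local notation "T" => ι (l 34)
local notation "U" => ι (l 40)
local notation "Z" => ι (l 8)
local notation "A" => ι (l 60)
local notation "H" => ι (l 78)
local notation "W" => ι (l 82)

theorem ne_of_inj (h : Function.Injective ι) (v w : List ℕ)
    (h1 : neP E bs KA v w = true := by decide +kernel) : P ι v ≠ P ι w := by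
  rw [P_id, P_id ι w]
  exact fun e => emb_id.ne v w h1 (h e)

namespace E4

variable (h : E4 ι r)
include h

theorem ne (v w : List ℕ) (h1 : neP E bs KA v w = true := by decide +kernel) : P ι v ≠ P ι w :=
  ne_of_inj h.inj v w h1

theorem t1 : T ≠ 1 := h.ne [34] []

theorem rR : R ι r 1 := fun a ha => by simp [h.rc a ha]

theorem rT : r * T = T * r := h.rc _ t_even

theorem act {g : G} (hg : g * T = T * g) : ∃ m, R ι g m ∧ (g = ι m ∨ g = ι m * r) := by
  obtain ⟨m, e⟩ := h.cen g hg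
  exact ⟨m, e.elim (fun e => e ▸ R_hom ι m) fun e => e ▸ (R_hom ι m).mul1 h.rR, e⟩

theorem kl {k : G} (hk : R ι k 1) :
    (k * k = 1 ∧ (k = 1 ∨ k = T)) ∨ (k * k = T ∧ (k = r ∨ k = T * r)) := by
  obtain ⟨m, hm, e⟩ := h.act hk.comT
  have : m = 1 ∨ m = t := cen_K0 fun a ha => mul_inv_eq_iff_eq_mul.1 (h.inj (by
    rw [← hm a ha, hk.comm ha, mul_inv_cancel_right]))
  rcases this with rfl | rfl <;> rcases e with rfl | rfl
  exacts [.inl ⟨by simp, .inl (map_one ι)⟩, .inr ⟨by simp [h.rr], .inl (by simp)⟩,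
    .inl ⟨tt ι, .inr rfl⟩, .inr ⟨by
      rw [mul_assoc, ← mul_assoc r, h.rT, mul_assoc, h.rr, tt, mul_one], .inr rfl⟩]

theorem kl2 {k : G} (hk : R ι k 1) (e : k * k = T) : k = r ∨ k = T * r :=
  ((h.kl hk).resolve_left fun f => h.t1 (e.symm.trans f.1)).2

theorem st : St ι := by
  refine ⟨fun a _ b _ => map_mul ι a b, fun a _ b _ e => h.inj e,
    fun g hg => (h.act hg).imp fun _ e => e.1, fun g i h1 h2 h3 h4 => ?_⟩
  have k : ∀ {k}, R ι k 1 → k * k = 1 → k ≠ 1 → k = T := fun h1 h2 h3 =>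
    ((h.kl h1).resolve_right fun f => h.t1 (f.1.symm.trans h2)).2.resolve_left h3
  have := k h4 (Inv.conj_mul_self h2 g) (by simpa using h3)
  rwa [k h1 h2 h3, mul_inv_eq_iff_eq_mul] at this

theorem root {g : G} (g1 : g * (U * T) * g⁻¹ = T) (g2 : g * T * g⁻¹ = U * T) :
    ∃ v ∈ V, ∃ k, (k = r ∨ k = T * r) ∧ g * r * g⁻¹ = ι (l 68 * v) * k := by
  obtain ⟨c, hc, hV⟩ := h.st.kact g1 g2 h.rR
  have e : g * r * g⁻¹ * (g * r * g⁻¹) = U * T := by rw [conj_mul, h.rr, g2]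
  obtain ⟨v, hv, rfl⟩ := hV.resolve_left fun f => by
    have := hc.mul hc
    rw [e, V_sq f] at this
    exact (h.st.triv ((R_hom ι u).mul1 h.st.rT) this).elim (emb_id.ne [40] []) (emb_id.ne [40] [34])
  have i : l 68 * v ∈ K0 := mul_mem (even_of [68]) (V_even hv)
  obtain ⟨k, hk, e1⟩ := h.st.dec hc i
  refine ⟨v, hv, k, h.kl2 hk ?_, e1⟩
  rwa [e1, mul_assoc, ← mul_assoc k, hk.comm i, mul_assoc, ← mul_assoc, ← map_mul, root_sq hv,
    V_sq hv, mul_one, mul_right_inj] at e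

theorem zr : r * Z = Z * T * r := by
  rcases h.kl2 ((R_hom ι (l 8)).conj1 h.rR) (by
    rw [conj_mul, h.rr, t_cen, mul_inv_cancel_right]) with e | e
  · exfalso
    obtain ⟨g, g1, g2⟩ := h.st.exists_swap h.hj
    obtain ⟨v, hv, k, hk, e1⟩ := h.root g1 g2
    have n1 : Commute (ι (l 38)) r := by
      have := (h.rc _ (even_of [38, 8])).symm
      change Commute (ι (l 38 * l 8)) r at this
      simpa [mul_assoc] using this.mul_left (Commute.inv_left (mul_inv_eq_iff_eq_mul.1 e))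
    have n2 : Commute (ι (l 38)) k := hk.elim (fun e => e ▸ n1) fun e =>
      e ▸ Commute.mul_right (t_cen ι _) n1
    have n3 : ι (l 38) * (g * r * g⁻¹) * (ι (l 38))⁻¹ = T * (g * r * g⁻¹) := by
      rw [e1, ← mul_assoc, mul_assoc _ k, ← n2.inv_left.eq, ← mul_assoc, ← mul_assoc, ← map_inv,
        ← map_mul, ← map_mul, ← map_mul, ← conj_mul, V_comm (y := l 38) hv (gq 𝟙 [38, 40] [40, 38]),
        mul_inv_cancel_right, ← mul_assoc, show l 38 * l 68 * (l 38)⁻¹ = t * l 68 from gq 𝟙 [38, 68, 39] [34, 68]]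
    obtain ⟨m, hm, -⟩ := h.act (g := g⁻¹ * ι (l 38) * g) (by
      have : ι (l 38) * (U * T) = U * T * ι (l 38) := gq2 ι [38] [40, 34] [40, 34] [38]
      rw [← g2] at this
      calc _ = g⁻¹ * (ι (l 38) * (g * T * g⁻¹)) * g := by group
        _ = _ := by rw [this]; group)
    have n4 : T * (g * r * g⁻¹) = g * (g⁻¹ * ι (l 38) * g * r * (g⁻¹ * ι (l 38) * g)⁻¹) * g⁻¹ := by
      rw [← n3]; group
    rcases h.kl2 (hm.conj1 h.rR) (by rw [conj_mul, h.rr, hm.comT, mul_inv_cancel_right]) with f | f <;>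
      rw [f] at n4
    · exact h.t1 (mul_eq_right.1 n4)
    · rw [← conj_mul, g2, mul_left_inj] at n4
      exact (h.ne [40] [] :) (mul_eq_right.1 n4.symm)
  · rw [mul_inv_eq_iff_eq_mul] at e
    calc _ = T * (T * r * Z) := by rw [← mul_assoc, ← mul_assoc, tt, one_mul]
      _ = _ := by rw [← e, ← mul_assoc, t_cen]

theorem ro {m : M} (hm : m ∉ K0) : r * ι m = ι m * T * r := by
  have e : m * l 8 ∈ K0 := (mul_mem_iff_of_index_two K0_index).2 (iff_of_false hm z_odd)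
  calc _ = r * ι (m * l 8) * Z := by rw [mul_assoc, ← map_mul, mul_assoc, zz, mul_one]
    _ = ι (m * l 8) * Z * T * r := by rw [h.rc _ e, mul_assoc, h.zr]; group
    _ = _ := by rw [← map_mul, mul_assoc m, zz, mul_one]

theorem rodd {g : G} {m : M} (hg : R ι g m) (hm : m ∉ K0) : r * g * r⁻¹ = g * T := by
  obtain ⟨n, hn, e⟩ := h.act hg.comT
  have := h.ro (m := n) fun f => (h.st.uniq hg hn).elim (fun e => hm (e ▸ f))
    fun e => hm (e ▸ mul_mem f t_even)
  rcases e with rfl | rfl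
  · rw [this, mul_inv_cancel_right]
  · rw [← mul_assoc, mul_inv_cancel_right, this, mul_assoc, mul_assoc, h.rT]

theorem sq_r {m : M} : ι m * r * (ι m * r) = 1 → (m ∈ K0 ∧ m * m = t) ∨ (m ∉ K0 ∧ m * m = 1) :=
  fun e => by
    by_cases hm : m ∈ K0
    · rw [mul_assoc, ← mul_assoc r, h.rc _ hm, mul_assoc, h.rr, ← mul_assoc, ← map_mul, ← map_mul,
        ← map_one ι] at e
      exact .inl ⟨hm, by rw [← mul_one (m * m), ← t2, ← mul_assoc, h.inj e, one_mul]⟩
    · rw [mul_assoc, ← mul_assoc r, h.ro hm, mul_assoc, h.rr, mul_assoc, tt, mul_one, ← map_mul,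
        ← map_one ι] at e
      exact .inr ⟨hm, h.inj e⟩

theorem odd {g : G} (hg : g * T = T * g) {k : ℕ} (e : g ^ (2 * k + 1) = 1) :
    ∃ m, m ^ (2 * k + 1) = 1 ∧ g = ι m := by
  obtain ⟨m, hm, e1⟩ := h.st.odd hg e
  obtain ⟨c, hc, rfl⟩ := h.st.dec hm (mem_of_odd K0_index k e1)
  rw [(show Commute (ι m) c from (hc.comm (mem_of_odd K0_index k e1)).symm).mul_pow, ← map_pow, e1,
    map_one, one_mul] at e
  have c4 : c ^ 4 = 1 := by
    rw [show 4 = 2 * 2 from rfl, pow_mul, pow_two, pow_two]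
    rcases h.kl hc with f | f <;> rw [f.1]
    exacts [one_mul 1, tt ι]
  rw [orderOf_eq_one_iff.1 (Nat.eq_one_of_dvd_coprimes (Nat.Coprime.pow_right 2
    (Nat.coprime_two_right.2 ⟨k, rfl⟩)) (orderOf_dvd_of_pow_eq_one e) (orderOf_dvd_of_pow_eq_one c4))]
  exact ⟨m, e1, mul_one _⟩

theorem cj_r {a b : M} (ha : a ∉ K0) (e : IsConj a b) : IsConj (ι a * r) (ι b * r) := by
  obtain ⟨g, rfl⟩ := isConj_iff.1 e
  obtain ⟨c, hc, f⟩ := conj_even (m := g) ha (rfl : a * a = a * a)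
  exact isConj_of (g := ι c) (by
    rw [← f, ← mul_assoc, mul_assoc _ r, ← map_inv, h.rc _ (inv_mem hc), map_mul, map_mul, mul_assoc _ _ r])

theorem hA : IsConj A T := h.st.conjTU h.hj [0, 17, 0, 27, 14, 16, 30] [60]

theorem rel {v y k : G} (hk : k * v * k⁻¹ = T) (h1 : IsConj y T) (h2 : y * v = v * y) (h3 : y ≠ v)
    (h4 : ¬ IsConj (y * v) T) : ∃ a ∈ K0, k * y * k⁻¹ = ι a := by
  obtain ⟨m, hm, -⟩ := h.act (St.cT hk h2)
  have c := (isConj_of (g := k) rfl).symm.trans h1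
  by_cases e : m ∈ K0
  · obtain ⟨b, hb, f⟩ := h.st.inL c (fun f => h3 (by simpa using f.trans hk.symm)) e hm
    exact ⟨b⁻¹ * (u * t) * b⁻¹⁻¹, cjK _ (mul_mem u_even t_even), by
      rw [map_mul, map_mul, map_mul, ← f, inv_inv, map_inv]; group⟩
  · exact absurd ((isConj_of (g := k) (by rw [← conj_mul, hk])).trans
      ((isConj_of (h.rodd hm e)).symm.trans c)) h4

theorem r_not {k : G} (hk : k * A * k⁻¹ = T) (a : M) : k * r * k⁻¹ ≠ ι a := fun e => by
  obtain ⟨b, hb, f⟩ := h.st.inL h.hA (h.ne [60] [34]) (even_of [60]) (R_hom ι _)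
  obtain ⟨c, hc, g1, g2⟩ := h.st.swap (g := k * (ι b)⁻¹) (by rw [← f, ← hk]; group)
  obtain ⟨v, hv, x, hx, e1⟩ := h.root g1 g2
  have e2 : ι c * (k * (ι b)⁻¹) * r * (ι c * (k * (ι b)⁻¹))⁻¹ = ι (c * a * c⁻¹) := by
    rw [map_mul, map_mul, map_inv, ← e]
    calc _ = ι c * (k * ((ι b)⁻¹ * (r * ι b)) * k⁻¹) * (ι c)⁻¹ := by group
      _ = _ := by rw [h.rc _ hb]; group
  rw [e2, ← inv_mul_eq_iff_eq_mul, ← map_inv, ← map_mul] at e1
  have x1 : R ι x 1 := hx.elim (fun e => e ▸ h.rR) fun e => e ▸ h.st.rT.mul1 h.rR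
  have x2 : x * x = T := ((h.kl x1).resolve_left fun f => by
    rcases hx with rfl | rfl
    · exact h.t1 (h.rr.symm.trans f.1)
    · rw [mul_assoc, ← mul_assoc r, h.rT, mul_assoc, h.rr, tt, mul_one] at f; exact h.t1 f.1).1
  rcases h.st.triv (R_hom ι _) (e1 ▸ x1) with f | f <;> rw [← e1, f] at x2
  · exact h.t1 (by simpa using x2.symm)
  · exact h.t1 (x2.symm.trans (tt ι))

omit h in
theorem aa : A * A = 1 := gsq ι [60]

omit h in
theorem az : A * Z = Z * A := gq ι [60, 8] [8, 60]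

theorem not_wr (h1 : ¬ IsConj (Z * r) T) (h2 : Xor (IsConj Z T) (IsConj (A * Z) T)) :
    ¬ IsConj (A * Z * r) T := fun hw => by
  obtain ⟨k, hk⟩ := isConj_iff.1 h.hA
  have c : Commute A r := (h.rc _ (even_of [60])).symm
  obtain ⟨a, ha, e⟩ := h.rel hk hw (((Commute.refl A).mul_right az).mul_right c).symm.eq
    (fun e => (h.st.triv ((R_hom ι (l 8)).mul1 h.rR) (by
      rw [mul_assoc, mul_eq_left] at e; exact e ▸ R.one)).elim (emb_id.ne [8] []) (emb_id.ne [8] [34]))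
    (by rwa [mul_assoc, ← c.eq, ← mul_assoc, mul_assoc A, ← az, ← mul_assoc, aa, one_mul])
  rcases h2 with ⟨h2, h3⟩ | ⟨h2, h3⟩
  · obtain ⟨b, hb, f⟩ := h.rel hk h2 az.symm (h.ne [8] [60]) (by rwa [← az])
    refine h.r_not hk ((t * b)⁻¹ * a) ?_
    rw [map_mul, map_inv, map_mul, ← e, ← f, ← hk]; group
  · obtain ⟨b, hb, f⟩ := h.rel hk h2 ((Commute.refl A).mul_right az).symm.eq (h.ne [60, 8] [60])
      (by rwa [mul_assoc, ← az, ← mul_assoc, aa, one_mul])
    refine h.r_not hk (b⁻¹ * a) ?_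
    rw [map_mul, map_inv, ← e, ← f]; group

theorem pn {w v : G} (h1 : IsConj w T) (h4 : ¬ IsConj v T) (h3 : v ≠ 1) (h5 : IsConj (w * v) T)
    (h6 : w * v = v * w) : ∃ g : G, g * w * g⁻¹ = T ∧ g * v * g⁻¹ = U := by
  obtain ⟨k, hk⟩ := isConj_iff.1 h1
  have ww := sq_of_isConj h1 (tt ι)
  obtain ⟨a, ha, e⟩ := h.rel hk h5 (by rw [mul_assoc, ← h6]) (by simpa using h3)
    (by rwa [h6, mul_assoc, ww, mul_one])
  obtain ⟨b, -, f⟩ := h.st.inL ((isConj_of rfl).symm.trans h5) (s := k * (w * v) * k⁻¹)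
    (fun f => h3 (by simpa using f.trans hk.symm)) ha (e ▸ R_hom ι a)
  have e1 : ι b * k * w * (ι b * k)⁻¹ = T := by
    calc _ = ι b * (k * w * k⁻¹) * (ι b)⁻¹ := by group
      _ = _ := by rw [hk, t_cen, mul_inv_cancel_right]
  refine ⟨ι b * k, e1, mul_left_cancel (a := T) ?_⟩
  rw [← t_cen, ← f, ← e1]; group

theorem six (hz : ¬ IsConj Z T) (hr : ¬ IsConj (Z * r) T) (hw : IsConj (A * Z) T) {a : G}
    (h1 : a * T = T * a) (h2 : a * U = U * a) (h3 : a * H = H * a) (h4 : IsConj a T)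
    (h5 : IsConj (a * U) T) :
    a = T ∨ a = T * U ∨ a = W ∨ a = W * U ∨ a = W * T ∨ a = W * T * U := by
  have aa := sq_of_isConj h4 (tt ι)
  have hu := h.st.not_conj
  obtain ⟨m, hm, e⟩ := h.act h1
  have m1 := h.st.comm' hm u_even h2
  have m2 := h.st.comm' hm (even_of [78]) h3
  rcases e with rfl | rfl
  · rcases six_M m1 m2 (h.inj (by rw [map_mul, aa, map_one])) with
      rfl | rfl | ⟨x, hx, e⟩ | rfl | rfl | ⟨-, rfl | rfl | rfl | rfl⟩
    · exact absurd (isConj_one_right.1 (map_one ι ▸ h4)) h.t1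
    · exact absurd h4 hu
    · have : IsConj (ι x) T := e.elim (fun e => (ι.map_isConj e).trans h4)
        fun e => (ι.map_isConj e).trans (map_mul ι _ _ ▸ h5)
      exact hx.elim (fun e => absurd (e ▸ this) hz) fun e => absurd (e ▸ this) hu
    all_goals simp only [map_mul, true_or, or_true]
  · exfalso
    rcases h.sq_r aa with ⟨-, e⟩ | ⟨mo, mm⟩
    · exact h.st.no2B h.rR e h4
    rcases six_M m1 m2 mm with rfl | rfl | ⟨x, rfl | rfl, e⟩ | rfl | rfl | ⟨e, -⟩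
    · exact mo (one_mem _)
    · exact mo u_even
    · refine hr (e.elim (fun e => (h.cj_r z_odd e).trans h4) fun e => (h.cj_r z_odd e).trans ?_)
      rwa [map_mul, mul_assoc, ← h.rc _ u_even, ← mul_assoc]
    · exact mo (e.elim (fun e => even_of_conj e u_even)
        fun e => (mul_mem_cancel_right u_even).1 (even_of_conj e u_even))
    · exact mo t_even
    · exact mo (mul_mem t_even u_even)
    · exact h.not_wr hr (.inr ⟨hw, hz⟩) (map_mul ι _ _ ▸ (h.cj_r w_odd e).trans h4)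

theorem hard [Finite G] (hz : ¬ IsConj Z T) (hr : ¬ IsConj (Z * r) T) : ¬ IsConj (A * Z) T := by
  intro hw
  have hu := h.st.not_conj
  have hj : IsConj (T * U) T := t_cen ι u ▸ h.hj
  have tri : ∀ {w v d : G}, IsConj w T → v ≠ 1 → ¬ IsConj v T → IsConj (w * v) T →
      w * v = v * w → d ^ 3 = 1 → d ≠ 1 → d * w = w * d → d * v = v * d →
      ∃ g : G, g * w * g⁻¹ = T ∧ g * v * g⁻¹ = U ∧ g * d * g⁻¹ = H := by
    intro w v d h1 h3 h4 h5 h6 h7 h8 h9 h10
    obtain ⟨g, g1, g3⟩ := h.pn h1 h4 h3 h5 h6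
    obtain ⟨m, m3, e1⟩ := h.odd (k := 1) (St.cT g1 h9) (by rw [conj_pow, h7]; simp)
    obtain ⟨n, -, n2, n3⟩ := emb_id.syl3 (tc m) (h.inj (by
      change ι (m * u) = ι (u * m)
      rw [map_mul, map_mul, ← e1, ← g3]; exact cj_comm g h10)) m3
      (fun e => h8 (by simpa [e] using e1))
    replace n2 := congrArg ι n2
    replace n3 := congrArg ι n3
    simp only [map_mul, map_inv, MonoidHom.id_apply] at n2 n3
    have e : ∀ x, ι n * g * x * (ι n * g)⁻¹ = ι n * (g * x * g⁻¹) * (ι n)⁻¹ := fun x => by group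
    exact ⟨ι n * g, by rw [e, g1, t_cen, mul_inv_cancel_right],
      by rw [e, g3, n2, mul_inv_cancel_right], by rw [e, e1, n3]⟩
  let Γ : Subgroup G := centralizer {U} ⊓ centralizer {H}
  have mk : ∀ {g : G}, g * U = U * g → g * H = H * g → g ∈ Γ := fun e1 e2 =>
    ⟨mem_centralizer_singleton_iff.2 e1, mem_centralizer_singleton_iff.2 e2⟩
  have m1 : ∀ g : Γ, g * U = U * g := fun g => mem_centralizer_singleton_iff.1 g.2.1
  have m2 : ∀ g : Γ, g * H = H * g := fun g => mem_centralizer_singleton_iff.1 g.2.2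
  have uu : U * U = 1 := gq ι [40, 40] []
  have u1 : U ≠ 1 := h.ne [40] []
  have key := ab' {a : Γ | IsConj (a : G) T ∧ IsConj (a * U) T}
    («u» := ⟨U, mk rfl (gq ι [40, 78] [78, 40])⟩)
    («t» := ⟨T, mk (t_cen ι _).symm (t_cen ι _).symm⟩)
    (w := ⟨W, mk (gq ι [82, 40] [40, 82]) (gq ι [82, 78] [78, 82])⟩)
    (b := ⟨ι (l 84), mk (gq ι [84, 40] [40, 84]) (gq ι [84, 78] [78, 84])⟩)
    (fun g => Subtype.ext (m1 g)) (Subtype.ext uu) (fun e => u1 (congrArg Subtype.val e))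
    (fun a ha g => ⟨(isConj_of rfl).symm.trans ha.1, (isConj_of (g := (g : G)) (by
      rw [← conj_mul, m1 g, mul_inv_cancel_right]; rfl)).symm.trans ha.2⟩)
    (fun a ha => Subtype.ext (sq_of_isConj ha.1 (tt ι)))
    (fun a ha => ⟨ha.2, by
      change IsConj ((a : G) * U * U) T
      rw [mul_assoc, uu, mul_one]; exact ha.1⟩)
    (fun a ha e => by
      simpa only [Subtype.ext_iff, coe_mul] using
        h.six hz hr hw (congrArg Subtype.val e) (m1 a) (m2 a) ha.1 ha.2)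
    (fun a ha => by
      obtain ⟨g, g1, g2, g3⟩ := tri ha.1 u1 hu ha.2 (m1 a) (gpow ι [78] 3) (h.ne [78] [])
        (m2 a).symm (gq ι [78, 40] [40, 78])
      exact ⟨⟨g, mk (mul_inv_eq_iff_eq_mul.1 g2) (mul_inv_eq_iff_eq_mul.1 g3)⟩, Subtype.ext g1⟩)
    ⟨IsConj.refl _, hj⟩
    ⟨(gcj ι [17, 4, 1, 26, 22, 19, 27, 23, 29] [60, 8] [82]).symm.trans hw,
      (gcj ι [19, 10, 0, 22, 16, 18, 28, 24, 28, 28] [60, 8] [82, 40]).symm.trans hw⟩
    ⟨(gcj ι [1, 27, 12, 25, 14, 22, 22, 28] [60, 8] [82, 34]).symm.trans hw,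
      (gcj ι [27, 12, 25, 14, 22, 22, 28] [60, 8] [82, 34, 40]).symm.trans hw⟩
    (Subtype.ext (t_cen ι _).symm) (fun e => h.t1 (isConj_one_right.1 e.1))
    (Subtype.ext (gq ι [84, 84] [])) (Subtype.ext (t_cen ι _))
    (Subtype.ext (gq ι [84, 82] [82, 84, 40]))
  obtain ⟨g, g1, g2, g3⟩ := tri (d := ι (l 54)) h.hA (h.ne [8] []) hz hw
    (gq ι [60, 8] [8, 60]) (gpow ι [54] 3) (h.ne [54] []) (gq ι [54, 60] [60, 54])
    (gq ι [54, 8] [8, 54])
  have := congrArg Subtype.val (key ⟨g * P ι [46, 60, 47] * g⁻¹,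
    mk (g2 ▸ cj_comm g (gq2 ι _ [8] [8] _)) (g3 ▸ cj_comm g (gq2 ι _ [54] [54] _))⟩
    ⟨(isConj_of rfl).symm.trans ((gcj ι [46] [60] _).symm.trans h.hA), by
      change IsConj (g * P ι [46, 60, 47] * g⁻¹ * U) T
      rw [← g2, conj_mul]
      exact (isConj_of rfl).symm.trans ((gcj ι [46] [60, 8] [46, 60, 47, 8]).symm.trans hw)⟩)
  change _ * T = T * _ at this
  rw [← g1, conj_mul, conj_mul, mul_left_inj, mul_right_inj] at this
  exact (h.ne [46, 60, 47, 60] [60, 46, 60, 47] :) (this.trans (by simp only [P, List.foldl, mul_assoc]; rfl))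

theorem exists_rho (hz : IsConj Z T) : ∃ ρ ∈ CA ι [42, 44, 46, 48, 50, 52],
    ρ * ρ * T * (ρ * ρ)⁻¹ = Z ∧ ρ * ρ * Z * (ρ * ρ)⁻¹ = T * Z := by
  obtain ⟨g, hg⟩ := isConj_iff.1 hz
  obtain ⟨m, hm, -⟩ := h.act (St.cT hg (t_cen ι _).symm)
  have mo : m ∉ K0 := fun e => by
    obtain ⟨b, -, f⟩ := h.st.inL (isConj_of rfl).symm
      (fun f => (h.ne [34] [8] :) (show T = Z by simpa using f.trans hg.symm)) e hm
    have e1 : ι b * g * Z * (ι b * g)⁻¹ = T := by
      calc _ = ι b * (g * Z * g⁻¹) * (ι b)⁻¹ := by group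
        _ = _ := by rw [hg, t_cen, mul_inv_cancel_right]
    obtain ⟨n, n7, e2⟩ := h.odd (k := 3) (St.cT e1 (y := ι (l 56)) (gq ι [56, 8] [8, 56]))
      (by rw [conj_pow, show ι (l 56) ^ _ = 1 from gpow ι [56] 7]; simp)
    have e3 := cj_comm (ι b * g) (t_cen ι (l 56))
    rw [show ι b * g * T * (ι b * g)⁻¹ = U * T by rw [← f]; group] at e3
    rw [e2, ← mul_assoc, mul_assoc U, ← t_cen, ← mul_assoc, mul_left_inj, ← map_mul, ← map_mul] at e3
    have := Subgroup.orderOf_dvd_natCard (centralizer {t} ⊓ centralizer {u}) (x := n)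
      ⟨mem_centralizer_singleton_iff.2 (tc n), mem_centralizer_singleton_iff.2 (h.inj e3)⟩
    rw [show Nat.card (centralizer {t} ⊓ centralizer {u} : Subgroup M) = _ from emb_id.card_cenU] at this
    rw [orderOf_eq_one_iff.1 (Nat.eq_one_of_dvd_coprimes (by decide) this
      (orderOf_dvd_of_pow_eq_one n7)), map_one, conj_eq_one_iff] at e2
    exact (h.ne [56] [] :) e2
  have a1 : g⁻¹ * r * g * T * (g⁻¹ * r * g)⁻¹ = T * Z := by
    calc _ = g⁻¹ * (r * (g * T * g⁻¹) * r⁻¹) * g := by group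
      _ = _ := by rw [h.rodd hm mo, ← hg]; group
  have a2 : g⁻¹ * r * g * Z * (g⁻¹ * r * g)⁻¹ = Z := by
    calc _ = g⁻¹ * (r * (g * Z * g⁻¹) * r⁻¹) * g := by group
      _ = _ := by rw [hg, h.rT, ← hg]; group
  have a3 : ∀ a : M, a ^ 3 = 1 → a * l 8 = l 8 * a →
      g⁻¹ * r * g * r * ι a = ι a * (g⁻¹ * r * g * r) := fun a e1 e2 => by
    obtain ⟨n, n3, e⟩ := h.odd (k := 1) (St.cT hg (y := ι a) (by rw [← map_mul, e2, map_mul]))
      (by rw [conj_pow, ← map_pow, e1]; simp)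
    have := h.rc _ (mem_of_odd K0_index 1 n3)
    rw [← e] at this
    rw [mul_assoc, h.rc _ (mem_of_odd K0_index 1 e1), ← mul_assoc, ← mul_assoc (ι a), mul_left_inj]
    calc _ = g⁻¹ * (r * (g * ι a * g⁻¹)) * g := by group
      _ = _ := by rw [this]; group
  have zz : Z * Z = 1 := gsq ι [8]
  have b2 : r * Z * r⁻¹ = T * Z := by rw [h.zr, mul_inv_cancel_right, t_cen]
  have b1 : r * T * r⁻¹ = T := by rw [h.rT, mul_inv_cancel_right]
  generalize g⁻¹ * r * g = s at a1 a2 a3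
  have e : ∀ x, s * r * x * (s * r)⁻¹ = s * (r * x * r⁻¹) * s⁻¹ := fun x => by group
  have c1 : s * r * T * (s * r)⁻¹ = T * Z := by rw [e, b1, a1]
  have c2 : s * r * Z * (s * r)⁻¹ = T := by rw [e, b2, ← conj_mul, a1, a2, mul_assoc, zz, mul_one]
  refine ⟨s * r, fun a ha => ?_, ?_, ?_⟩
  · simp only [List.mem_cons, List.not_mem_nil, or_false] at ha
    rcases ha with rfl | rfl | rfl | rfl | rfl | rfl
    exacts [a3 _ (a_facts 𝟙 (i := 0) (by decide)).2 (a_facts 𝟙 (i := 0) (by decide)).1,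
      a3 _ (a_facts 𝟙 (i := 1) (by decide)).2 (a_facts 𝟙 (i := 1) (by decide)).1,
      a3 _ (a_facts 𝟙 (i := 2) (by decide)).2 (a_facts 𝟙 (i := 2) (by decide)).1,
      a3 _ (a_facts 𝟙 (i := 3) (by decide)).2 (a_facts 𝟙 (i := 3) (by decide)).1,
      a3 _ (a_facts 𝟙 (i := 4) (by decide)).2 (a_facts 𝟙 (i := 4) (by decide)).1,
      a3 _ (a_facts 𝟙 (i := 5) (by decide)).2 (a_facts 𝟙 (i := 5) (by decide)).1]
  all_goals generalize s * r = ρ at c1 c2
  · calc _ = ρ * (ρ * T * ρ⁻¹) * ρ⁻¹ := by group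
      _ = _ := by rw [c1, ← conj_mul, c1, c2, mul_assoc, t_cen, ← mul_assoc, tt, one_mul]
  · calc _ = ρ * (ρ * Z * ρ⁻¹) * ρ⁻¹ := by group
      _ = _ := by rw [c2, c1]

end E4

end Cfsg.Agent.HNS
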