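import Cfsg.Agent.HNS.Quo
import Cfsg.Agent.HNS.Cent2
import Cfsg.Agent.HNR.Main
import Cfsg.Agent.Spor.HN.Out

/-! The Harada–Norton group from a standard subgroup. -/

set_option autoImplicit false
set_option maxRecDepth 100000

namespace Cfsg.Agent.HNS

open Subgroup Cfsg.Agent.Comp HNR HNR.DH

local notation "t" => l 34
local notation "u" => l 40

variable {G : Type*} [Group G] {ι : M →* G}

local notation "T" => ι (l 34)
local notation "U" => ι (l 40)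
local notation "X" => ι (l 0)
local notation "Y" => ι (l 4)
local notation "Z" => ι (l 8)
local notation "A" => ι (l 60)

theorem p_zpowers {a : G} {n : ℕ} (h : a ^ 2 ^ n = 1) : IsPGroup 2 (zpowers a) := by
  rintro ⟨_, k, rfl⟩
  exact ⟨n, Subtype.ext (by
    change (a ^ k) ^ 2 ^ n = 1
    rw [← zpow_natCast, ← zpow_mul, mul_comm, zpow_mul, zpow_natCast, h, one_zpow])⟩

theorem exists_two [Finite G] {w a b : G} {n : ℕ} (ha : a ^ 2 ^ n = 1) (hb : b ^ 2 ^ n = 1)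
    (h1 : a * w = w * a) (h2 : b * w = w * b) :
    ∃ (S : Subgroup G) (c : G), IsPGroup 2 S ∧ a ∈ S ∧ c * b * c⁻¹ ∈ S ∧ c * w = w * c := by
  have := Fact.mk Nat.prime_two
  let a' : centralizer {w} := ⟨a, mem_centralizer_singleton_iff.2 h1⟩
  let b' : centralizer {w} := ⟨b, mem_centralizer_singleton_iff.2 h2⟩
  obtain ⟨P, hP⟩ := (p_zpowers (a := a') (Subtype.ext ha)).exists_le_sylow
  obtain ⟨Q, hQ⟩ := (p_zpowers (a := b') (Subtype.ext hb)).exists_le_sylow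
  obtain ⟨c, rfl⟩ := MulAction.exists_smul_eq (centralizer {w}) Q P
  exact ⟨_, c, (c • Q).2.map (Subgroup.subtype _), ⟨a', hP (mem_zpowers _), rfl⟩,
    ⟨c * b' * c⁻¹, smul_mem_pointwise_smul b' (MulAut.conj c) _ (hQ (mem_zpowers _)), rfl⟩,
    mem_centralizer_singleton_iff.1 c.2⟩

variable (ι) in
/-- a subgroup playing the role of the Harada–Norton group -/
structure Sub (B : Subgroup G) : Prop where
  st : St ι
  hj : IsConj (ι u * ι t) (ι t)
  mem : ∀ m, ι m ∈ B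
  cen : ∀ g ∈ B, g * T = T * g → ∃ m, ι m = g
  cls : ∀ g ∈ B, g * g = 1 → g ≠ 1 → ∃ k ∈ B, k * T * k⁻¹ = g ∨ k * U * k⁻¹ = g
  cO : ∀ g ∈ B, ∀ o ∈ OO ι, Commute o g
  nK : ∀ k, R ι k 1 → k ∈ normalizer (B : Set G) ∧ (k ∈ OO ι ∨ k * T ∈ OO ι ∨ k * Z * k⁻¹ = Z * T)

namespace Sub

variable {B : Subgroup G} (h : Sub ι B)
include h

theorem oN : OO ι ≤ normalizer (B : Set G) := fun o ho => (h.nK o (OO_r ho)).1

theorem dec {x : G} (hx : x ∈ B ⊔ OO ι) : ∃ a ∈ B, ∃ o ∈ OO ι, x = a * o := by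
  rw [← SetLike.mem_coe, coe_mul_of_right_le_normalizer_left B _ h.oN] at hx
  obtain ⟨a, ha, o, ho, e⟩ := hx
  exact ⟨a, ha, o, ho, e.symm⟩

theorem inn {k : G} (e : k ∈ OO ι ∨ k * T ∈ OO ι) : k ∈ B ⊔ OO ι :=
  e.elim mem_sup_right fun e => (mul_mem_cancel_right (mem_sup_left (h.mem t))).1 (mem_sup_right e)

theorem cT {g : G} (hg : g * T = T * g) : ∃ m k, R ι k 1 ∧ g = ι m * k := by
  obtain ⟨m, hm⟩ := h.st.act g hg
  exact ⟨m, _, St.mk_eq hm, by group⟩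

theorem cTN {g : G} (hg : g * T = T * g) : g ∈ normalizer (B : Set G) := by
  obtain ⟨m, k, hk, rfl⟩ := h.cT hg
  exact mul_mem (le_normalizer (h.mem m)) (h.nK k hk).1

theorem clsT {a : G} (ha : a ∈ B) (c : IsConj a T) : ∃ k ∈ B, k * T * k⁻¹ = a := by
  obtain ⟨k, hk, e⟩ := h.cls a ha (sq_of_isConj c (tt ι)) fun e => h.st.t1 (isConj_one_right.1 (e ▸ c))
  exact ⟨k, hk, e.resolve_right fun e => h.st.not_conj ((isConj_of e).trans c)⟩

theorem decN {x : G} (hx : x ∈ normalizer (B : Set G)) : ∃ a ∈ B, ∃ k, R ι k 1 ∧ x = a * k := by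
  obtain ⟨b, hb, e⟩ := h.clsT ((mem_normalizer_iff.1 hx _).1 (h.mem t)) (isConj_of rfl).symm
  obtain ⟨m, k, hk, f⟩ := h.cT (g := b⁻¹ * x) (by
    calc _ = b⁻¹ * (x * T * x⁻¹) * x := by group
      _ = _ := by rw [← e]; group)
  exact ⟨b * ι m, mul_mem hb (h.mem m), k, hk, by rw [mul_assoc, ← f, mul_inv_cancel_left]⟩

variable [Finite G]

theorem invB {x : G} (hx : x ∈ B ⊔ OO ι) (xx : x * x = 1) : x ∈ B := by
  obtain ⟨a, ha, o, ho, e⟩ := h.dec hx
  exact inv_eq_pow xx e (h.st.OO_odd h.hj ho) (h.cO a ha o ho) ▸ pow_mem ha _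

theorem two {x y : G} (hx : x ∈ normalizer (B : Set G)) (hy : y ∈ normalizer (B : Set G))
    (h1 : x ∉ B ⊔ OO ι) (h2 : y ∉ B ⊔ OO ι) : x * y ∈ B ⊔ OO ι := by
  obtain ⟨a, ha, k, hk, rfl⟩ := h.decN hx
  obtain ⟨b, hb, c, hc, rfl⟩ := h.decN hy
  rw [show a * k * (b * c) = a * (k * b * k⁻¹) * (k * c) by group]
  exact mul_mem (mem_sup_left (mul_mem ha ((mem_normalizer_iff.1 (h.nK k hk).1 b).1 hb)))
    (h.inn (h.st.two h.hj hk hc (fun e => h1 (mul_mem (mem_sup_left ha) (h.inn e)))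
      fun e => h2 (mul_mem (mem_sup_left hb) (h.inn e))).1)

theorem root {g y : G} (h1 : y * y ∈ B) (h2 : IsConj (y * y) T)
    (h3 : g * y * g⁻¹ ∈ normalizer (B : Set G)) : g ∈ normalizer (B : Set G) := by
  have c := (isConj_of (g := g) rfl).symm.trans h2
  obtain ⟨a, ha, e1⟩ := h.clsT h1 h2
  obtain ⟨b, hb, e2⟩ := h.clsT (h.invB (by
    rw [← conj_mul]
    exact by_contra fun n => n (h.two h3 h3 (fun e => n (mul_mem e e)) fun e => n (mul_mem e e)))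
    (sq_of_isConj c (tt ι))) c
  have := h.cTN (g := b⁻¹ * g * a) (by
    calc _ = b⁻¹ * (g * (a * T * a⁻¹) * g⁻¹) * g * a := by group
      _ = _ := by rw [e1, ← e2]; group)
  rwa [mul_mem_cancel_right (le_normalizer ha), mul_mem_cancel_left (inv_mem (le_normalizer hb))] at this

theorem two_le {S : Subgroup G} (hS : IsPGroup 2 S) (hx : X ∈ S) : S ≤ normalizer (B : Set G) :=
  le_of_norm hS fun _ _ H => h.root (mul_mem (h.mem _) (h.mem _))
    (by rw [show X * X = T from gq ι [0, 0] [34]]) ((H _ hx).1 (le_normalizer (h.mem _)))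

theorem inner [IsSimpleGroup G] {k : G} (hk : R ι k 1) : k ∈ OO ι ∨ k * T ∈ OO ι := by
  by_contra n
  have := Fact.mk Nat.prime_two
  have zz : Z * Z = 1 := gsq ι [8]
  have e1 : Z * k * (Z * k) ∈ OO ι := by
    rw [show Z * k * (Z * k) = Z * (k * Z * k⁻¹) * (k * k) by group,
      ((h.nK k hk).2.resolve_left fun e => n (.inl e)).resolve_left fun e => n (.inr e),
      ← mul_assoc Z, zz, one_mul, ← (hk.mul1 hk).comT]
    exact (h.st.two h.hj hk hk n n).2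
  obtain ⟨i, hi⟩ := h.st.OO_odd h.hj e1
  obtain ⟨τ, o, ho, e2, ττ⟩ : ∃ τ, ∃ o ∈ OO ι, τ = Z * (k * o) ∧ τ * τ = 1 :=
    ⟨(Z * k) ^ (2 * i + 1), _, pow_mem e1 i, by rw [pow_succ', pow_mul, pow_two, mul_assoc], by
      rw [← (Commute.refl _).mul_pow, ← hi, pow_orderOf_eq_one]⟩
  have r := hk.mul1 (OO_r ho)
  have rτ : R ι τ (l 8) := e2 ▸ (R_hom ι _).mul1 r
  have n1 : τ ∉ B := fun e => by
    obtain ⟨m, hm⟩ := h.cen _ ((mul_mem_cancel_left (h.mem _)).1 (e2 ▸ e)) r.comT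
    refine n ((h.st.triv (R_hom ι m) (hm ▸ r)).imp (fun f => ?_) fun f => ?_) <;> rw [f] at hm
    · rw [eq_inv_of_mul_eq_one_left (hm.symm.trans (map_one ι))]; exact inv_mem ho
    · rw [← mul_mem_cancel_right ho, mul_assoc, cenT ho, ← mul_assoc, ← hm, tt]; exact one_mem _
  have n2 : τ ∉ B ⊔ OO ι := fun e => n1 (h.invB e ττ)
  have x4 : X ^ 2 ^ 2 = 1 := gpow ι [0] 4
  have t2 : τ ^ 2 ^ 1 = 1 := by rw [pow_one, pow_two, ττ]
  obtain ⟨S, hS⟩ := ((p_zpowers t2).to_sup_of_normal_right' (p_zpowers x4)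
    (zpowers_le_of_mem (mem_normalizer_fintype (by
      rintro _ ⟨n, rfl⟩
      refine ⟨-n, ?_⟩
      simp only
      rw [← conj_zpow, rτ _ x_even, map_mul, map_mul, map_inv,
        show Z * X * Z⁻¹ = X⁻¹ from gq ι [8, 0, 9] [1], inv_zpow'])))).exists_le_sylow
  have τS := hS (mem_sup_left (mem_zpowers τ))
  have SN := h.two_le S.2 (hS (mem_sup_right (mem_zpowers X)))
  rcases S0111.result S (S ⊓ (B ⊔ OO ι)) inf_le_left (relIndex_eq_two_iff.2 ⟨τ, τS, fun b hb => by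
      by_cases e : b ∈ B ⊔ OO ι
      · exact .inr ⟨⟨hb, e⟩, fun f => n2 ((mul_mem_cancel_left e).1 f.2)⟩
      · exact .inl ⟨⟨mul_mem hb τS, h.two (SN hb) (SN τS) e n2⟩, fun f => e f.2⟩⟩) τ
    (orderOf_eq_prime t2 fun e => n1 (e ▸ one_mem _)) τS (fun e => n2 e.2) with
    ⟨N, hN, i2, n3⟩ | ⟨g, -, g2⟩
  · rcases hN.eq_bot_or_eq_top with e | e
    · exact h.st.t1 ((gq ι [0, 0] [34]).symm.trans (mem_bot.1 (e ▸ N.mul_self_mem_of_index_two i2 X)))
    · exact n3 (e ▸ mem_top τ)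
  obtain ⟨b, hb, e⟩ := h.cls _ (h.invB g2 (Inv.conj_mul_self ττ g)) (Inv.conj_mul_self ττ g)
    fun e => n1 (conj_eq_one_iff.1 e ▸ one_mem _)
  obtain ⟨w, w1, w2, w3⟩ : ∃ w ∈ B, X * w = w * X ∧ b⁻¹ * g * τ * (b⁻¹ * g)⁻¹ = w := by
    have e3 : b⁻¹ * g * τ * (b⁻¹ * g)⁻¹ = b⁻¹ * (g * τ * g⁻¹) * b := by group
    rcases e with e | e <;> rw [← e] at e3
    exacts [⟨T, h.mem _, t_cen ι _, e3.trans (by group)⟩,
      ⟨U, h.mem _, gq ι [0, 40] [40, 0], e3.trans (by group)⟩]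
  generalize b⁻¹ * g = g at w3
  have y1 : P ι [43, 44, 46, 49, 46] * P ι [43, 44, 46, 49, 46] = A :=
    (gq2 ι _ _ [60] []).trans (mul_one _)
  have y2 := (rτ.fix (even_of [43, 44, 46, 49, 46]) (gq2 (MonoidHom.id M) [8] _ _ [8])).symm
  rw [← P_id] at y2
  obtain ⟨S', c, s1, s2, s3, s4⟩ := exists_two x4 (b := g * P ι [43, 44, 46, 49, 46] * g⁻¹)
    (by rw [conj_pow, gpow ι _ (2 ^ 2)]; simp) w2 (w3 ▸ cj_comm g y2)
  have := h.root (g := c * g) (y1 ▸ h.mem _) (y1 ▸ h.st.conjTU h.hj [0, 17, 0, 27, 14, 16, 30] [60])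
    (by convert h.two_le s1 s2 s3 using 1; group)
  refine n1 ((mem_normalizer_iff.1 this τ).2 ?_)
  rwa [show c * g * τ * (c * g)⁻¹ = c * (g * τ * g⁻¹) * c⁻¹ by group, w3, s4, mul_inv_cancel_right]

theorem top [IsSimpleGroup G] {Λ : Type*} [Group Λ] (e : Λ ≃* gen DL.ns [[0], [2], [4]]) {ψ : Λ →* G}
    (p0 : ψ (ev e DL.ns [0]) = ι (l 36)) (p2 : ψ (ev e DL.ns [2]) = ι (l 38))
    (hψ : Function.Injective ψ) (h1 : ∀ p, ψ p ∈ B) (h2 : ∀ g ∈ B, g * U = U * g → g ∈ ψ.range)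
    (hw : IsConj (A * Z) U) : B = ⊤ := by
  have hT : ∀ g, g * T = T * g → g ∈ B ⊔ OO ι := fun g hg => by
    obtain ⟨m, k, hk, rfl⟩ := h.cT hg
    exact mul_mem (mem_sup_left (h.mem m)) (h.inn (h.inner hk))
  have u1 : U ≠ 1 := fun f => (emb_id.ne [40] [] :) (h.st.inj _ u_even _ (one_mem _) (f.trans (map_one ι).symm))
  have key : B ⊔ OO ι = ⊤ := eq_top_of_two (orderOf_eq_prime (gpow ι [34] 2) h.st.t1)
    (orderOf_eq_prime (gpow ι [40] 2) u1) h.st.not_conj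
    (fun g hg => hT g (mem_centralizer_singleton_iff.1 hg)) (fun g hg => by
      refine cent_le' e ψ hψ (fun p => mem_sup_left (h1 p)) ?_ ?_ ?_ ?_
        (psi_u e p0 p2 ▸ mem_centralizer_singleton_iff.1 hg) <;>
        simp only [psi_t e p0 p2, psi_u e p0 p2]
      · intro x hx c
        obtain ⟨a, ha, o, ho, rfl⟩ := h.dec hx
        obtain ⟨p, rfl⟩ := h2 a ha (by
          simpa using ((show Commute _ U from c).mul_left (h.cO _ (h.mem _) o ho).inv_left).eq)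
        exact ⟨p, o, rfl, h.st.OO_odd h.hj ho, fun q => h.cO _ (h1 q) o ho⟩
      exacts [hT, h.st.not_conj, by
        simp only [DL.rs, List.forall_mem_cons]
        refine ⟨.inr ?_, .inl ?_, .inl ?_, .inl ?_, by simp⟩ <;>
          rw [psi_ev e p0 p2 _ (by rfl)]
        exacts [(gcj ι [22, 13, 17, 0] [60, 8] [38, 40]).symm.trans hw,
          (gcj ι [13, 11, 28] [60, 8] _).symm.trans hw,
          (gcj ι [12, 32, 20, 13] [60, 8] _).symm.trans hw, (gcj ι [21, 8, 20] [40] _).symm]])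
    fun g hg h2 h1 => (h.cls g (h.invB hg h2) h2 h1).imp fun k hk => ⟨mem_sup_left hk.1, hk.2⟩
  exact (normalizer_eq_top_iff.1 (top_le_iff.1 (key ▸ sup_le le_normalizer h.oN))).eq_bot_or_eq_top.resolve_left
    fun f => h.st.t1 (mem_bot.1 (f ▸ h.mem t))

end Sub

theorem St.iso [Finite G] [IsSimpleGroup G] (h : St ι) (hj : IsConj (U * T) T) (hz : IsConj Z T) :
    Nonempty (G ≃* Spor.HN) := by
  have h1 := Spor.HNC.final Spor.HNC.boundH
  have := h1.1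
  have := Spor.HNC.simple Spor.HNC.boundH
  have := finM
  obtain ⟨f, f5, fx, fy, fz, fo, fk⟩ := h.lift hj hz
  have inj : Function.Injective ι := fun a b e => h.bar_inj hj (congrArg (pr ι) (Subtype.ext e))
  obtain ⟨φ, hφ⟩ := link_hom Spor.HNC.link.1 (sat_yv ι f5 fx fy fz)
  have i1 := DL.inj_of_simple φ (a := Spor.HNC.x 0) (by rw [hφ]; exact ne_of_inj inj [0] [])
  obtain ⟨Λ, e, e0, e2⟩ := DL.exists_lam Spor.HNC.link.1
  have ev' : ∀ W, φ (BN.ev Spor.HNC.x W) = BN.ev (yv ι f) W := fun W => by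
    rw [BN.map_ev]; simp only [hφ]
  have p0 : φ (ev e DL.ns [0]).1 = ι (l 36) := by
    rw [e0, ev', ev_yv ι f (by rfl)]; exact gq ι _ [36]
  have p2 : φ (ev e DL.ns [2]).1 = ι (l 38) := by
    rw [e2, ev', ev_yv ι f (by rfl)]; exact gq ι _ [38]
  have m0 : ∀ m, ι m ∈ φ.range := gen_top (H := φ.range.comap ι) ⟨_, hφ 0⟩ ⟨_, hφ 2⟩ ⟨_, hφ 4⟩
  obtain ⟨j, hj'⟩ : ∃ j : M →* Spor.HN, ∀ m, φ (j m) = ι m :=
    ⟨(MonoidHom.ofInjective i1).symm.toMonoidHom.comp (ι.codRestrict _ m0), fun m =>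
      MonoidHom.apply_ofInjective_symm i1 _⟩
  have ji : Function.Injective j := fun a b e => inj (by rw [← hj', e, hj'])
  have jt : j t = Spor.HNC.Out.z0 := i1 (by
    rw [hj', Spor.HNC.Out.z0, map_mul, hφ]; exact (gq ι [0, 0] [34]).symm)
  have em : Emb j := ⟨ji, fun g hg => (eq_of_le_of_card_ge (H := j.range) (K := Spor.HNC.Out.j.range) (by
      rintro _ ⟨m, rfl⟩; exact Spor.HNC.Out.mem_of_comm (jt ▸ t_cen j m)) (by
      rw [Spor.HNC.Out.cardH, DCE.card_range_of_injective ji, cardM])).ge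
        (Spor.HNC.Out.mem_of_comm (jt ▸ hg))⟩
  have cj : ∀ {a b m}, IsConj a (j m) → φ a = b → ∃ k ∈ φ.range, k * ι m * k⁻¹ = b := fun c e => by
    obtain ⟨k, rfl⟩ := isConj_iff.1 c.symm
    exact ⟨φ k, ⟨k, rfl⟩, by rw [← e, map_mul, map_mul, map_inv, hj']⟩
  have hu : ¬ IsConj (j u) (j t) := fun c => h.not_conj (by simpa only [hj'] using φ.map_isConj c)
  have z := em.conj_z hu (Tw.not_iso (τ := 1) ⟨fun a b _ => map_mul j a b,
    fun a b _ _ => by rw [map_mul, mul_one], ji, em.cen, .inl rfl⟩)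
  obtain ⟨ρ, r1, -, r3⟩ := em.exists_rho z
  have hw : IsConj (j (l 60) * j (l 8)) (j u) := conj_w (ρ := ρ⁻¹) (by rw [← r1]; group) (inv_mem
    fun a ha => by
      simp only [List.mem_cons, List.not_mem_nil, or_false] at ha
      rcases ha with rfl | rfl | rfl | rfl | rfl | rfl
      exacts [r3 0 (by decide), r3 1 (by decide), r3 2 (by decide), r3 3 (by decide), r3 4 (by decide),
        r3 5 (by decide)])
  have gn : ∀ H : Subgroup G, (∀ m, ι m ∈ H) → f ∈ H → ∀ b, φ b ∈ H := fun H a1 a2 b =>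
    BN.gen_le (H := H.comap φ) (fun k => by
      rw [mem_comap, hφ]
      by_cases hk : k < 7
      · interval_cases k
        exacts [a1 _, a1 _, a1 _, a1 _, a1 _, a2, inv_mem a2]
      · rw [yv, List.getD_eq_default _ _ (not_lt.1 hk)]; exact one_mem _)
      (Spor.HNC.link.1.top ▸ mem_top b)
  have mf : f ∈ φ.range := ⟨_, hφ 5⟩
  have s : Sub ι φ.range := by
    refine ⟨h, hj, m0, ?_, ?_, ?_, fun k hk => ⟨mem_normalizer_fintype ?_, (fk k hk).2⟩⟩
    · rintro _ ⟨b, rfl⟩ hb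
      obtain ⟨m, rfl⟩ := em.cen b (i1 (by rw [map_mul, map_mul, hj', hb]))
      exact ⟨m, (hj' m).symm⟩
    · rintro _ ⟨b, rfl⟩ b2 b1
      rcases (em.equiv hu z (by rw [h1.2.1]; decide) Spor.HNC.link.1).2 b
        (i1 (by rw [map_mul, b2, map_one])) (fun e => b1 (by rw [e, map_one])) with c | c <;>
        obtain ⟨k, hk, e⟩ := cj c rfl
      exacts [⟨k, hk, .inl e⟩, ⟨k, hk, .inr e⟩]
    · rintro _ ⟨b, rfl⟩ o ho
      exact (mem_centralizer_singleton_iff.1 (gn (centralizer {o}) (fun m =>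
        mem_centralizer_singleton_iff.2 (h.cenM hj hz m ho))
        (mem_centralizer_singleton_iff.2 (fo o ho)) b)).symm
    · rintro _ ⟨b, rfl⟩
      have c : ∀ {m}, k * ι m = ι m * k → m ∈ (φ.range.comap (MulAut.conj k).toMonoidHom).comap ι :=
        fun {m} e => by
          change k * ι m * k⁻¹ ∈ φ.range
          rw [e, mul_inv_cancel_right]; exact m0 m
      refine gn (φ.range.comap (MulAut.conj k).toMonoidHom) (gen_top (c (hk.comm x_even))
        (c (hk.comm y_even)) ?_) (zpowers_le_of_mem mf (fk k hk).1) b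
      rcases (fk k hk).2 with e | e | e
      · exact c (h.cenM hj hz _ e).symm
      · exact c (by
          simpa using ((show Commute _ Z from (h.cenM hj hz _ e).symm).mul_left
            (show Commute T Z from (t_cen ι _).symm).inv_left).eq)
      · change k * Z * k⁻¹ ∈ φ.range
        exact e ▸ mul_mem (m0 _) (m0 _)
  refine ⟨(MulEquiv.ofBijective φ ⟨i1, MonoidHom.range_eq_top.1 (s.top e (ψ := φ.comp Λ.subtype) p0 p2
    (i1.comp Λ.subtype_injective) (fun p => ⟨p, rfl⟩) ?_ (by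
      simpa only [map_mul, hj'] using φ.map_isConj hw))⟩).symm⟩
  rintro _ ⟨b, rfl⟩ hb
  obtain ⟨p, rfl⟩ := em.cent_u e (ψ := Λ.subtype) (i1 (p0.trans (hj' _).symm)) (i1 (p2.trans (hj' _).symm))
    Λ.subtype_injective hu hw (x := b) (mem_centralizer_singleton_iff.2 (i1 (by rw [map_mul, map_mul, hj', hb])))
  exact ⟨p, rfl⟩

end Cfsg.Agent.HNS
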