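import Cfsg.Agent.HNS.Tr

/-! Construction of the last generator of the presentation when the centraliser of the
standard subgroup has order four. -/

set_option autoImplicit false
set_option maxRecDepth 100000

namespace Cfsg.Agent.HNS

open Subgroup Cfsg.Agent.Comp HNR HNR.DH

variable {G : Type*} [Group G] {ι : M →* G} {r : G} {N : Subgroup G}

local notation "𝟙" => MonoidHom.id M
local notation "T" => ι (l 34)
local notation "X" => ι (l 0)
local notation "Y" => ι (l 4)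
local notation "Z" => ι (l 8)
local notation "Q" => ι (l 64)
local notation "C" => ι (l 54)
local notation "S" => ι (l 62)
local notation "Y5" => (CA ι [42, 44, 46, 48, 50] ⊓ N : Subgroup G)
local notation "Y6" => (CA ι [42, 44, 46, 48] ⊓ N : Subgroup G)
local notation "Y7" => (CA ι [42, 44, 46] ⊓ N : Subgroup G)
local notation "YA" => CA ι [42, 44, 46, 48, 50, 52]
local notation "YW" => (CA ι [42, 44, 46, 48, 50, 66] ⊓ N : Subgroup G)

theorem mono' {as bs : List ℕ} (h : as ⊆ bs) : (CA ι bs ⊓ N : Subgroup G) ≤ CA ι as ⊓ N :=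
  inf_le_inf_right _ (CA.mono h)

namespace E4

variable [Finite G] (h : E4 ι r) (hN : Hf ι N) {ρ : G} (r1 : ρ * ι (l 34) * ρ⁻¹ = ι (l 8))
  (r2 : ρ * ι (l 8) * ρ⁻¹ = ι (l 34) * ι (l 8)) (r3 : ρ ∈ CA ι [42, 44, 46, 48, 50, 52])
  (r4 : ρ ∈ N) (r5 : ι (l 62) * ρ * (ι (l 62))⁻¹ ∈ N)
include h hN

omit [Finite G] in
theorem tN : T ∈ N := h.rr ▸ hN.sq r h.r_mem

omit [Finite G] in
theorem sol {as0 : List (List ℕ × List ℕ)} {cs : List (List ℕ)}
    (s : SolList ns (gen ns [[0], [2], [4], [6], [8]]) as0 [] cs)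
    (ha : and' (allL as0 (fun p => and' (inK KA p.1) (inK KA p.2))) (allL cs (inK KA)) = true)
    {g : G} (h7 : g ∈ Y7) (hg : g * T = T * g) (hx : ∀ p ∈ as0, g * P ι p.1 = P ι p.2 * g) :
    ∃ c ∈ cs, g = P ι c := sol' h.inj s ha (hN.rg g h7.1 h7.2 hg) hx

include r1 r3

omit [Finite G] in
theorem zN : Z ∈ N := r1 ▸ hN.cj ρ (CA.mono (by simp) r3) _ (h.tN hN)

include r5

omit [Finite G] h hN in
theorem exists_sigma' : ∃ σ ∈ Y6, σ * T * σ⁻¹ = Q :=
  ⟨_, ⟨CA.conj r3 [62] [[43, 47, 44, 48], [44, 43, 49, 46], [42, 45, 47, 49, 42],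
    [42, 44, 47, 48, 45]], r5⟩, by
    change S * ρ * S⁻¹ * T * (S * ρ * S⁻¹)⁻¹ = Q
    calc _ = S * (ρ * (S⁻¹ * T * S) * ρ⁻¹) * S⁻¹ := by group
      _ = _ := by
        rw [mul_assoc S⁻¹, ← t_cen, inv_mul_cancel_left, r1]; exact gq ι [62, 8, 63] [64]⟩

omit [Finite G] in
theorem qN : Q ∈ N := by
  obtain ⟨σ, s1, s2⟩ := exists_sigma' r1 r3 r5
  exact s2 ▸ hN.cj σ (CA.mono (by simp) s1.1) _ (h.tN hN)

include r4

theorem six' : Nonempty (Y6 ≃* alternatingGroup (Fin 6)) := by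
  obtain ⟨σ, s1, s2⟩ := exists_sigma' r1 r3 r5
  refine six_of_d8 (s := ⟨Z, ⟨CA.of ι _ [8], zN h hN r1 r3⟩⟩) (q := ⟨Q, ⟨CA.of ι _ [64], qN h hN r1 r3 r5⟩⟩) (z := ⟨T, ⟨CA.of ι _ [34], tN h hN⟩⟩)
    (Subtype.ext (gsq ι [8])) (Subtype.ext (gsq ι [64]))
    (Subtype.ext ((gq2 ι [8, 64] [8, 64] [34] []).trans (mul_one _))) (Subtype.ext (tt ι))
    (fun e => h.t1 (congrArg Subtype.val e)) (Subtype.ext (t_cen ι _)) (Subtype.ext (t_cen ι _))
    (fun g hg => ?_) (isConj_of (g := ⟨ρ, CA.mono (by simp) r3, r4⟩) (Subtype.ext r1))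
    (isConj_of (g := ⟨σ, s1⟩) (Subtype.ext s2)) fun g hg => by_contra fun g1 => ?_
  · obtain ⟨c, hc, e⟩ := h.sol hN S6 (by decide +kernel) (mono' (by simp) g.2)
      (congrArg Subtype.val hg) (by
      simpa [S6_as, P, lt_eq] using (show ∀ a ∈ [42, 44, 46, 48], _ from g.2.1))
    obtain ⟨y, hy, e1⟩ := P_mem ι (H := (closure {(⟨Z, ⟨CA.of ι _ [8], zN h hN r1 r3⟩⟩ : Y6),
      ⟨Q, ⟨CA.of ι _ [64], qN h hN r1 r3 r5⟩⟩}).map (Y6).subtype) [8, 64] (by
        simp only [List.forall_mem_cons]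
        exact ⟨⟨_, subset_closure (Or.inl rfl), rfl⟩, ⟨_, subset_closure (Or.inr rfl), rfl⟩, by simp⟩)
      c ((allL_iff _ _).1 (show allL S6_cs (fun u => allL u fun a =>
        anyL [8, 64] (Nat.beq (Nat.mul 2 (Nat.div a 2)))) = true by decide +kernel) c hc)
    exact (Subtype.ext (e1.trans e.symm) : y = g) ▸ hy
  · obtain ⟨k, hk⟩ := isConj_iff.1 h.hA
    have e := CA.word g.2.1 [43, 44, 46, 49, 46]
    have e1 : P ι [43, 44, 46, 49, 46] * P ι [43, 44, 46, 49, 46] = ι (l 60) :=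
      (gq2 ι _ _ [60] []).trans (mul_one _)
    have e4 : P ι [43, 44, 46, 49, 46] * C ≠ C * P ι [43, 44, 46, 49, 46] := fun f =>
      (h.ne [43, 44, 46, 49, 46, 54] [54, 43, 44, 46, 49, 46] :)
        ((P_append ι [43, 44, 46, 49, 46] [54]).trans (f.trans (P_append ι [54] _).symm))
    generalize P ι [43, 44, 46, 49, 46] = x at e e1 e4
    obtain ⟨n, n7, en⟩ := h.odd (k := 3) (St.cT hk (y := (g : G)) (e1 ▸ (Commute.mul_right e e).eq))
      (by rw [conj_pow, show (g : G) ^ _ = 1 from congrArg Subtype.val hg]; simp)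
    obtain ⟨c, hc, ec⟩ := h.act (St.cT hk (y := x) (by rw [← e1, mul_assoc]))
    have e2 : k * x * k⁻¹ * (k * x * k⁻¹) = T := by rw [conj_mul, e1, hk]
    obtain ⟨m, hm⟩ := emb_id.norm7 (tc n) n7 fun f => g1 (Subtype.ext (by simpa [f] using en))
    obtain ⟨κ, k1, k2, k3⟩ := emb_id.cen7 (tc _) (hm c (comm_of_odd n7
      (h.st.rcomm hc (R_hom ι n) (en ▸ cj_comm k e.symm))))
    simp only [MonoidHom.id_apply] at k2 k3
    have cc := h.st.triv (hc.mul hc) (e2 ▸ h.st.rT)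
    have k4 : κ ^ 4 = 1 := by
      rw [conj_mul] at k2
      rw [show 4 = 2 * 2 from rfl, pow_mul, pow_two, pow_two, eq_inv_of_mul_eq_one_left k2,
        ← mul_inv_rev, conj_mul]
      rcases cc with f | f <;> simp [f, t2]
    rw [orderOf_eq_one_iff.1 (Nat.eq_one_of_dvd_coprimes (by decide) (orderOf_dvd_of_pow_eq_one k1)
      (orderOf_dvd_of_pow_eq_one k4)), one_mul] at k2 k3
    rw [one_mul, conj_mul, conj_eq_one_iff] at k2
    by_cases ce : c ∈ K0
    · have c1 : c = 1 ∨ c = l 34 := by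
        have := cjK m ce
        rcases k3 with f | f | f | f <;> rw [f] at this
        exacts [.inl (conj_eq_one_iff.1 f), absurd this z_odd,
          .inr (mul_left_cancel ((mul_inv_eq_iff_eq_mul.1 f).trans (tc m).symm)),
          absurd ((mul_mem_cancel_left t_even).1 this) z_odd]
      obtain ⟨a, a3, ea⟩ := h.odd (k := 1) (St.cT hk (y := C) (gq ι [54, 60] [60, 54]))
        (by rw [conj_pow, show C ^ _ = 1 from gpow ι [54] 3]; simp)
      have := (hc.of_t c1).comm (mem_of_odd K0_index 1 a3)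
      rw [← ea, conj_mul, conj_mul, mul_left_inj, mul_right_inj] at this
      exact e4 this
    · rcases ec with f | f <;> rw [f] at e2
      · exact h.t1 (by rw [← e2, ← map_mul, k2, map_one])
      · rw [mul_assoc, ← mul_assoc r, h.ro ce, mul_assoc, h.rr, mul_assoc, tt, mul_one, ← map_mul, k2,
          map_one] at e2
        exact h.t1 e2.symm

include r2 in
theorem card_seven : Nat.card (Y6 ⊔ zpowers C : Subgroup G) ≤ 2520 := by
  obtain ⟨σ, s1, s2⟩ := exists_sigma' r1 r3 r5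
  obtain ⟨e⟩ := six' h hN r1 r3 r4 r5
  have := alternatingGroup.isSimpleGroup (α := Fin 6) (by simp)
  have := ((subgroupOfEquivOfLe (le_sup_left : Y6 ≤ Y6 ⊔ zpowers C)).trans e).isSimpleGroup
  have h7 : Y6 ⊔ zpowers C ≤ Y7 := sup_le (mono' (by simp)) (zpowers_le_of_mem
    ⟨CA.of ι _ [54], hN.odd (CA.of ι _ [54]) 1 (gpow ι [54] 3)⟩)
  have hc : C ∈ Y6 ⊔ zpowers C := mem_sup_right (mem_zpowers _)
  refine card_le_seven ((Y6).subgroupOf (Y6 ⊔ zpowers C)) (c := ⟨C, hc⟩)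
    (t := ⟨T, mem_sup_left ⟨CA.of ι _ [34], tN h hN⟩⟩) (z := ⟨Z, mem_sup_left ⟨CA.of ι _ [8], zN h hN r1 r3⟩⟩)
    (q := ⟨Q, mem_sup_left ⟨CA.of ι _ [64], qN h hN r1 r3 r5⟩⟩) 
    (ρ := ⟨ρ, mem_sup_left ⟨CA.mono (by simp) r3, r4⟩⟩)
    (σ := ⟨σ, mem_sup_left s1⟩) (fun N h1 h2 => eq_top_iff.2 fun g _ => ?_) ⟨CA.of ι _ [64], qN h hN r1 r3 r5⟩
    (Subtype.ext (tt ι)) (Subtype.ext (gsq ι [8])) (Subtype.ext (t_cen ι _).symm)
    (Subtype.ext (gpow ι [54] 3)) (fun e => (h.ne [54] [] :) (congrArg Subtype.val e))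
    (Subtype.ext (gq ι [64, 54, 65] [55])) (Subtype.ext (t_cen ι _)) (Subtype.ext r1)
    (Subtype.ext r2) (Subtype.ext ?_) (Subtype.ext s2) (fun g hg => ?_)
    (r := ⟨Z * Q, mem_sup_left (⟨CA.of ι _ [8, 64], mul_mem (zN h hN r1 r3) (qN h hN r1 r3 r5)⟩)⟩) ?_
  · obtain ⟨y, hy, e⟩ := (sup_le (fun y hy => ⟨⟨y, mem_sup_left hy⟩, h1 hy, rfl⟩)
      (zpowers_le_of_mem ⟨_, h2, rfl⟩) : Y6 ⊔ zpowers C ≤ N.map (Subgroup.subtype _)) g.2
    exact (Subtype.ext e : y = g) ▸ hy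
  · have := CA.word r3 [48, 53, 50, 49]
    rwa [gq ι _ [54]] at this
  · obtain ⟨c, hc', e⟩ := h.sol hN S5 (by decide +kernel) (h7 g.2) (congrArg Subtype.val hg) (by
      simpa [S5_as, P, lt_eq] using (show ∀ a ∈ [42, 44, 46], _ from (h7 g.2).1))
    have := (allL_iff _ _).1 (show allL S5_cs (fun c => and' (or' (neP E bs KA (appendR c c) [])
      (anyL [[], [54], [54, 54]] fun k => eqP E bs KA (appendR (appendR (appendR k c) (invW k)) [48])
        (appendR [48] (appendR (appendR k c) (invW k))))) (and' (eqP E bs KA (powW c 12) [])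
      (or' (neP E bs KA (appendR c (appendR c c)) []) (anyL [[], [54], [54, 54]] (eqP E bs KA c)))))
        = true by decide +kernel) c hc'
    simp only [and'_eq_true, or'_eq_true, anyL_iff] at this
    have hk : ∀ k ∈ [[], [54], [54, 54]], P ι k ∈ zpowers C := by
      simp only [List.forall_mem_cons]
      exact ⟨one_mem _, mem_zpowers _, mul_mem (mem_zpowers _) (mem_zpowers _), by simp⟩
    refine ⟨fun g2 => ?_, fun ho => ?_⟩
    · obtain ⟨k, k1, k2⟩ := this.1.resolve_left fun f => h.ne _ _ f (by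
        rw [appendR_eq, P_append, ← e]; exact congrArg Subtype.val g2)
      have k3 : _ ∈ Y6 ⊔ zpowers C := mem_sup_right (hk k k1)
      refine ⟨⟨_, k3⟩, ?_⟩
      have k6 := h7 (mul_mem (mul_mem k3 g.2) (inv_mem k3))
      have k4 := k6.1
      have k5 := gq2 ι _ _ _ _ k2
      rw [P_eq, ev_appendR, ev_appendR, ev_invW, map_mul, map_mul, map_inv, ← P_eq, ← P_eq, ← e] at k5
      refine ⟨fun a ha => ?_, k6.2⟩
      simp only [List.mem_cons, List.not_mem_nil, or_false] at ha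
      rcases ha with rfl | rfl | rfl | rfl
      exacts [k4 _ (by simp), k4 _ (by simp), k4 _ (by simp), k5]
    · obtain ⟨k, k1, k2⟩ := this.2.2.resolve_left fun f => h.ne _ _ f (by
        have e1 : g ^ 12 = 1 := Subtype.ext (by rw [coe_pow, e]; exact gpow ι c 12 this.2.1)
        have e2 : g ^ 3 = 1 := orderOf_dvd_iff_pow_eq_one.1 ((Nat.Coprime.pow_right 2
          (Nat.coprime_two_right.2 ho)).dvd_of_dvd_mul_left (orderOf_dvd_of_pow_eq_one e1))
        rw [appendR_eq, appendR_eq, P_append, P_append, ← e, ← pow_three]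
        exact congrArg Subtype.val e2)
      obtain ⟨n, hn⟩ := hk k k1
      exact ⟨n, Subtype.ext (hn.trans ((gq ι _ _ k2).symm.trans e.symm))⟩
  · refine (card_le_of_le (K := zpowers ⟨Z * Q, mem_sup_left (⟨CA.of ι _ [8, 64], mul_mem (zN h hN r1 r3) (qN h hN r1 r3 r5)⟩)⟩)
      fun g hg => ?_).trans ((Nat.card_zpowers _).trans_le
      (orderOf_le_of_pow_eq_one (by decide) (Subtype.ext (gpow ι [8, 64] 4))))
    have g1 : (g : G) * (Z * Q) = Z * Q * g :=
      congrArg Subtype.val (mem_centralizer_singleton_iff.1 hg)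
    have g2 : Z * Q * (Z * Q) = T := (gq2 ι [8, 64] [8, 64] [34] []).trans (mul_one _)
    obtain ⟨c, hc', e⟩ := h.sol hN Sr (by decide +kernel) (h7 g.2) (g2 ▸ (Commute.mul_right g1 g1).eq) (by
      have := (h7 g.2).1
      simp only [Sr_as, List.forall_mem_cons]
      exact ⟨this 42 (by simp), this 44 (by simp), this 46 (by simp), g1, by simp⟩)
    simp only [Sr_cs, List.mem_cons, List.not_mem_nil, or_false] at hc'
    rcases hc' with rfl | rfl | rfl | rfl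
    exacts [⟨(0 : ℕ), Subtype.ext (by simp [e, P])⟩, ⟨(2 : ℕ), Subtype.ext (by simp [e, P, lt_eq, pow_succ, mul_assoc])⟩,
      ⟨(1 : ℕ), Subtype.ext (by simp [e, P, lt_eq])⟩,
      ⟨(3 : ℕ), Subtype.ext (by simp [e, P, lt_eq, pow_succ, mul_assoc])⟩]

include r2 in
theorem card_five : Nat.card Y6 = 360 ∧ Nat.card Y5 = 60 := by
  obtain ⟨e⟩ := six' h hN r1 r3 r4 r5
  have := alternatingGroup.isSimpleGroup (α := Fin 6) (by simp)
  have := e.isSimpleGroup
  have h6 : Nat.card Y6 = 360 := by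
    rw [Nat.card_congr e.toEquiv, nat_card_alternatingGroup]; simp [Nat.factorial]
  have hc : C ∈ Y6 ⊔ zpowers C := mem_sup_right (mem_zpowers _)
  have h1 := card_mul_le (B := (Y6).map (MulAut.conj C).toMonoidHom)
    (le_sup_left : Y6 ≤ Y6 ⊔ zpowers C) (by
      rintro _ ⟨y, hy, rfl⟩
      exact mul_mem (mul_mem hc (mem_sup_left hy)) (inv_mem hc))
  have h2 : Y6 ⊓ (Y6).map (MulAut.conj C).toMonoidHom ≤ Y5 := by
    rintro _ ⟨h0, y, hy, rfl⟩
    exact ⟨CA.app (bs := [50]) h0.1 (CA.conj hy.1 [54] [[48]]), h0.2⟩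
  have h3 := card_seven h hN r1 r2 r3 r4 r5
  have h4 := card_le_of_le h2
  rw [card_map_of_injective (MulAut.conj C).injective, h6] at h1
  have h5 : Y5 ≤ Y6 := mono' (by simp)
  have h7 := card_dvd_fact (H := (Y5).subgroupOf Y6) fun f =>
    (h.ne [64, 50] [50, 64] :) ((subgroupOf_eq_top.1 f ⟨CA.of ι _ [64], qN h hN r1 r3 r5⟩).1 50 (by simp))
  have h8 := ((Y5).subgroupOf Y6).index_mul_card
  rw [Nat.card_congr (subgroupOfEquivOfLe h5).toEquiv] at h8
  rw [h6] at h7 h8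
  refine ⟨h6, ?_⟩
  generalize ((Y5).subgroupOf Y6).index = i at h7 h8
  have h9 : 52 ≤ Nat.card Y5 := by nlinarith
  have : i ≤ 6 := by nlinarith
  interval_cases i <;> first | omega | simp [Nat.factorial] at h7

include r2 in
theorem exists_f0 : ∃ f ∈ YW, f ^ 5 = 1 ∧ f ≠ 1 ∧ T * f * T * f = 1 ∧
    ∀ g ∈ YW, g ^ 5 = 1 → g ∈ zpowers f := by
  obtain ⟨h6, h5⟩ := card_five h hN r1 r2 r3 r4 r5
  have sc : ∀ y ∈ CA ι [42, 44, 46, 48], S * y * S⁻¹ ∈ CA ι [42, 44, 46, 48] := fun y hy =>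
    CA.conj hy [62] [[43, 47, 44, 48], [44, 43, 49, 46], [42, 45, 47, 49, 42], [42, 44, 47, 48, 45]]
  have sN : ∀ y ∈ Y6, S * y * S⁻¹ ∈ N := fun y hy => by
    obtain ⟨e⟩ := six' h hN r1 r3 r4 r5
    have := alternatingGroup.isSimpleGroup (α := Fin 6) (by simp)
    have := e.isSimpleGroup
    have hn : ((N.comap (MulAut.conj S).toMonoidHom).subgroupOf Y6).Normal := ⟨fun x hx g => by
      have := hN.cj _ (CA.mono (by simp) (sc g g.2.1)) _ hx
      change S * ((g : G) * x * (g : G)⁻¹) * S⁻¹ ∈ N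
      convert this using 1
      change _ = _ * (S * x * S⁻¹) * _
      group⟩
    refine subgroupOf_eq_top.1 (hn.eq_bot_or_eq_top.resolve_left fun f => h.t1 ?_) hy
    have : (⟨T, CA.of ι _ [34], tN h hN⟩ : Y6) ∈
        (N.comap (MulAut.conj S).toMonoidHom).subgroupOf Y6 := by
      change S * T * S⁻¹ ∈ N
      rw [t_cen, mul_inv_cancel_right]; exact tN h hN
    rw [f] at this
    exact congrArg Subtype.val (mem_bot.1 this)
  have h1 := card_mul_le (B := (Y5).map (MulAut.conj S).toMonoidHom)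
    (mono' (by simp) : Y5 ≤ Y6) (by
      rintro _ ⟨y, hy, rfl⟩
      exact ⟨sc y (CA.mono (by simp) hy.1), sN y (mono' (by simp) hy)⟩)
  have h2 : Y5 ⊓ (Y5).map (MulAut.conj S).toMonoidHom ≤ YW := by
    rintro _ ⟨h0, y, hy, rfl⟩
    exact ⟨CA.app (bs := [66]) h0.1 (CA.conj hy.1 [62] [[50]]), h0.2⟩
  have h4 := card_le_of_le h2
  rw [card_map_of_injective (MulAut.conj S).injective, h5, h6] at h1
  refine exists_five (mono' (by simp)) h5 (by omega) ⟨CA.of ι _ [34], tN h hN⟩ (tt ι) h.t1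
    (fun g hg e => ?_) ⟨CA.mono (by simp) r3, r4⟩ fun e =>
      (h.ne [8, 66] [66, 8] :) ((r1 ▸ e : Z ∈ YW).1 66 (by simp))
  obtain ⟨c, hc, e1⟩ := h.sol hN S7b (by decide +kernel) (mono' (by simp) hg) e (by
    simpa [S7b_as, P, lt_eq] using (show ∀ a ∈ [42, 44, 46, 48, 50], _ from CA.mono (by simp) hg.1))
  have e2 := e1 ▸ hg.1 66 (by simp)
  simp only [S7b_cs, List.mem_cons, List.not_mem_nil, or_false] at hc
  rcases hc with rfl | rfl | rfl | rfl
  exacts [Or.inl e1, absurd e2 (h.ne [8, 66] [66, 8]), Or.inr e1,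
    absurd (e2.trans (mul_assoc _ _ _).symm) (h.ne [34, 8, 66] [66, 34, 8])]

include r2 in
theorem exists_f : ∃ f : G, f ^ 5 = 1 ∧ X⁻¹ * f * X = f ^ 3 ∧ f * Y = Y * f ∧ (Z * f) ^ 3 = 1 ∧
    r * f * r⁻¹ ∈ zpowers f := by
  obtain ⟨e⟩ := six' h hN r1 r3 r4 r5
  have h6 : YW ≤ Y6 := mono' (by simp)
  obtain ⟨f, f0, f5, f1, ft, fw, f3, fr⟩ : ∃ f ∈ YW, f ^ 5 = 1 ∧ f ≠ 1 ∧ T * f * T * f = 1 ∧
      (∀ g ∈ YW, g ^ 5 = 1 → g ∈ zpowers f) ∧ (Z * f) ^ 3 = 1 ∧
      T * (f * Z * f⁻¹ * f⁻¹) = f * Z * f⁻¹ * f⁻¹ * Z := by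
    obtain ⟨f, f0, f5, f1, ft, fw⟩ := exists_f0 h hN r1 r2 r3 r4 r5
    obtain ⟨φ, p1, p2, p3⟩ := exists_hom6 e (f := ⟨f, h6 f0⟩) (Subtype.ext f5)
      fun e => f1 (congrArg Subtype.val e)
    have := s6a (φ ⟨T, ⟨CA.of ι _ [34], tN h hN⟩⟩) (by
        rw [← p2, ← map_mul, ← map_mul, ← map_mul, ← map_one φ]; exact congrArg φ (Subtype.ext ft))
      (by rw [← map_mul, ← map_one φ]; exact congrArg φ (Subtype.ext (tt ι)))
      (φ ⟨Z, ⟨CA.of ι _ [8], zN h hN r1 r3⟩⟩) (by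
        rw [← map_mul, ← map_mul]; exact congrArg φ (Subtype.ext (t_cen ι _)))
      (by rw [← map_mul, ← map_one φ]; exact congrArg φ (Subtype.ext (gsq ι [8])))
      (fun e => (h.ne [8] [] :) (congrArg Subtype.val (p1 (e.trans (map_one φ).symm))))
      (fun e => (h.ne [8] [34] :) (congrArg Subtype.val (p1 e))) (p3 _)
    rw [← p2] at this
    simp only [← map_pow φ, ← map_inv φ, ← map_mul φ, map_eq_one_iff φ p1, p1.eq_iff, Subtype.ext_iff,
      coe_mul, coe_pow, coe_inv, coe_one] at this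
    rcases this with ⟨a, b⟩ | ⟨a, b⟩
    · exact ⟨f, f0, f5, f1, ft, fw, a, b⟩
    · have e1 : (f ^ 2) ^ 3 = f := by rw [← pow_mul, pow_succ, f5, one_mul]
      refine ⟨f ^ 2, pow_mem f0 2, by rw [← pow_mul, mul_comm, pow_mul, f5, one_pow],
        fun e => f1 (by rw [← e1, e, one_pow]), ?_,
        fun g hg e => zpowers_le_of_mem (show f ∈ zpowers (f ^ 2) from
          ⟨(3 : ℕ), (zpow_natCast _ _).trans e1⟩) (fw g hg e), a, b⟩
      calc _ = T * f * (T * T) * f * T * f * f := by rw [tt, pow_two]; group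
        _ = T * f * T * (T * f * T * f) * f := by group
        _ = _ := by rw [ft, mul_one, ft]
  have fA : f * Z * f⁻¹ * f⁻¹ ∈ YA := by
    have h5 : YW ≤ Y5 := mono' (by simp)
    have e1 : f * Z * f⁻¹ * f⁻¹ ∈ Y5 :=
      mul_mem (mul_mem (mul_mem (h5 f0) ⟨CA.of ι _ [8], zN h hN r1 r3⟩) (inv_mem (h5 f0))) (inv_mem (h5 f0))
    generalize f * Z * f⁻¹ * f⁻¹ = k at fr e1
    obtain ⟨c, hc, e2⟩ := h.sol hN S7b (by decide +kernel) (g := k * ρ)
      (mul_mem (mono' (by simp) e1) ⟨CA.mono (by simp) r3, r4⟩)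
      (by rw [← mul_assoc, fr, ← r1]; group) (by
      simpa [S7b_as, P, lt_eq] using (show ∀ a ∈ [42, 44, 46, 48, 50], _ from
        mul_mem e1.1 (CA.mono (by simp) r3)))
    refine (mul_mem_cancel_right r3).1 (e2 ▸ CA.of ι _ c ?_)
    exact (allL_iff _ _).1 (show allL S7b_cs (fun u => allL [42, 44, 46, 48, 50, 52] fun a =>
      eqP E bs KA (appendR u [a]) (appendR [a] u)) = true by decide +kernel) c hc
  have fy := CA.wordU f0.1 [43, 50, 67, 207, 212, 215, 218, 216]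
  rw [gq ι _ [4]] at fy
  refine ⟨f, f5, ?_, fy, f3, fw _ ⟨(CA ι [42, 44, 46, 48, 50, 66]).mul_mem (mul_mem h.r_mem f0.1) (inv_mem h.r_mem),
    hN.cj r h.r_mem f f0.2⟩ (by rw [conj_pow, f5]; simp)⟩
  have x5 : (X⁻¹ * f * X) ^ 5 = 1 := by simpa [f5] using conj_pow (a := X⁻¹) (b := f) (i := 5)
  have xW : X⁻¹ * f * X ∈ CA ι [42, 44, 46, 48, 50, 66] := fun a ha => by
    obtain ⟨w, hw⟩ := exists_of_all2 (show all2 (fun a w => and' (eqP E bs KA [0, a, 1] w)
      (and' (inK KA w) (inK 1287933011040806891535288286314496 w))) [42, 44, 46, 48, 50, 66]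
      [[214, 213, 214, 160], [212, 210, 218, 216], [213, 213, 210, 217, 161], [213, 214, 217, 160],
        [210, 206, 212, 212, 210, 217, 160], [67]] = true by decide +kernel) ha
    rw [and'_eq_true] at hw
    have e1 := CA.wordU f0.1 w hw.2
    rw [← gq ι _ _ hw.1] at e1
    change f * (X * lt ι a * X⁻¹) = X * lt ι a * X⁻¹ * f at e1
    rw [lt_eq] at e1
    calc _ = X⁻¹ * (f * (X * ι (l a) * X⁻¹)) * X := by group
      _ = _ := by rw [e1]; group
  obtain ⟨k, hk, e1⟩ := exists_pow_of_mem_zpowers (by decide) f5 (fw (X⁻¹ * f * X)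
    ⟨xW, hN.odd (CA.mono (by simp) xW) 2 x5⟩ x5)
  have e2 : f ^ (k * k + 1) = 1 := by
    have e3 : X⁻¹ * f ^ k * X = (X⁻¹ * f * X) ^ k := by
      simpa using (conj_pow (a := X⁻¹) (b := f) (i := k)).symm
    have e4 : X * X = T := gq ι [0, 0] [34]
    rw [pow_succ, pow_mul, ← e1, ← e3, ← e1, ← ft]
    calc _ = (X * X)⁻¹ * f * (X * X) * f := by group
      _ = _ := by rw [e4, inv_eq_of_mul_eq_one_left (tt ι)]
  have : Fact (Nat.Prime 5) := ⟨by norm_num⟩
  rw [← orderOf_dvd_iff_pow_eq_one, orderOf_eq_prime f5 f1] at e2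
  interval_cases k <;> try omega
  · exfalso
    obtain ⟨φ, p1, p2, -⟩ := exists_hom6 e (f := ⟨f, h6 f0⟩) (Subtype.ext f5)
      fun e => f1 (congrArg Subtype.val e)
    have fs := CA.wordU f0.1 [206, 66, 50, 42, 66, 207, 213, 215, 215]
    rw [gq ι _ [62]] at fs
    change f * S = S * f at fs
    have := s6b (φ ⟨Z, ⟨CA.of ι _ [8], zN h hN r1 r3⟩⟩)
      (by rw [← map_mul, ← map_one φ]; exact congrArg φ (Subtype.ext (gsq ι [8])))
      (by rw [← p2, ← map_mul, ← map_pow, ← map_one φ]; exact congrArg φ (Subtype.ext f3))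
      (φ ⟨Q, ⟨CA.of ι _ [64], qN h hN r1 r3 r5⟩⟩)
      (by rw [← map_mul, ← map_one φ]; exact congrArg φ (Subtype.ext (gsq ι [64])))
    rw [← p2] at this
    simp only [← map_pow φ, ← map_inv φ, ← map_mul φ, map_eq_one_iff φ p1, p1.ne_iff,
      Subtype.ext_iff, coe_mul, coe_pow, coe_inv, coe_one, ne_eq] at this
    refine this ?_ ?_ ?_
    · rw [← show S * Z * S⁻¹ = Q from gq ι [62, 8, 63] [64], ← mul_inv_cancel_right f S, fs, conj_mul,
        conj_pow, f3]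
      simp
    · rw [show Z * Q * (Z * Q) = T from (gq2 ι [8, 64] [8, 64] [34] []).trans (mul_one _), ft]
    · have n1 := CA.word fA [50, 53, 50]
      rw [gq ι _ [58]] at n1
      have n2 := CA.wordU f0.1 [212, 218, 216]
      rw [← gq ι [0, 8, 64, 58] _] at n2
      change f * (X * Z * Q * ι (l 58)) = X * Z * Q * ι (l 58) * f at n2
      change _ * ι (l 58) = ι (l 58) * _ at n1
      have n3 : ι (l 58) * Z = Z * ι (l 58) := gq ι [58, 8] [8, 58]
      have n4 : ι (l 58) * f * (ι (l 58))⁻¹ = (Z * Q)⁻¹ * f ^ 2 * (Z * Q) := by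
        rw [← e1]
        calc _ = (X * Z * Q)⁻¹ * (X * Z * Q * ι (l 58) * f) * (ι (l 58))⁻¹ := by group
          _ = _ := by rw [← n2]; group
      generalize ι (l 58) = n at n1 n3 n4
      calc _ = ((Z * Q)⁻¹ * f ^ 2 * (Z * Q)) * Z * ((Z * Q)⁻¹ * f ^ 2 * (Z * Q))⁻¹ *
            ((Z * Q)⁻¹ * f ^ 2 * (Z * Q))⁻¹ := by group
        _ = n * (f * (n⁻¹ * (Z * n)) * f⁻¹ * f⁻¹) * n⁻¹ := by rw [← n4]; group
        _ = _ := by rw [← n3, inv_mul_cancel_left, ← n1, mul_inv_cancel_right]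

end E4

end Cfsg.Agent.HNS
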