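import Cfsg.Agent.HNS.DatA
import Cfsg.Agent.HNR.Tw
import Cfsg.Agent.HNR.Fus
import Cfsg.Agent.PLocal.Standard

/-! Facts about the model `M` of the involution centraliser. -/

set_option autoImplicit false
set_option maxRecDepth 100000

namespace Cfsg.Agent.HNS

open Subgroup Cfsg.Agent.Comp HNR HNR.DH

theorem exists_conj_le {A : Type*} [Group A] [Finite A] {p : ℕ} [Fact p.Prime] {S : Subgroup A}
    (hS : IsPGroup p S) {k : ℕ} (h1 : p ^ k ≤ Nat.card S) (h2 : ¬ p ^ (k + 1) ∣ Nat.card A)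
    {Y : Subgroup A} (hY : IsPGroup p Y) : ∃ g : A, ∀ x ∈ Y, g * x * g⁻¹ ∈ S := by
  obtain ⟨P, hP⟩ := hS.exists_le_sylow
  obtain ⟨R, hR⟩ := hY.exists_le_sylow
  obtain ⟨g, rfl⟩ := MulAction.exists_smul_eq A R P
  have e : S = (g • R : Sylow p A) := by
    refine eq_of_le_of_card_ge hP ?_
    obtain ⟨n, hn⟩ := IsPGroup.iff_card.1 (g • R).2
    have h3 : p ^ n ∣ Nat.card A := hn ▸ card_subgroup_dvd_card _
    have h4 : n ≤ k := by
      by_contra h5
      exact h2 ((pow_dvd_pow p (by omega)).trans h3)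
    exact hn.le.trans ((Nat.pow_le_pow_right (Fact.out : p.Prime).pos h4).trans h1)
  refine ⟨g, fun x hx => ?_⟩
  rw [e, Sylow.coe_subgroup_smul]
  exact smul_mem_pointwise_smul x (MulAut.conj g) _ (hR hx)

theorem pgroup_two {A : Type*} [Group A] {a b : A} (ha : a ^ 3 = 1) (hb : b ^ 3 = 1)
    (h : Commute a b) : IsPGroup 3 (zpowers a ⊔ zpowers b : Subgroup A) := by
  have p : ∀ {x : A}, x ^ 3 = 1 → IsPGroup 3 (zpowers x) := by
    rintro x hx ⟨_, n, rfl⟩
    exact ⟨1, Subtype.ext (by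
      change (x ^ n) ^ 3 ^ 1 = 1
      rw [pow_one, ← zpow_natCast, ← zpow_mul, mul_comm, zpow_mul, zpow_natCast, hx, one_zpow])⟩
  refine (p ha).to_sup_of_normal_right' (p hb) (zpowers_le_of_mem (centralizer_le_normalizer _ ?_))
  rintro _ ⟨n, rfl⟩
  exact (h.zpow_right n).eq.symm

local notation "𝟙" => MonoidHom.id M
local notation "t" => l 34
local notation "u" => l 40

theorem tc (m : M) : m * t = t * m := t_cen 𝟙 m

theorem t2 : t * t = 1 := tt 𝟙

theorem t1 : t ≠ 1 := emb_id.ne [34] []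

theorem sq_of_three {m1 m2 c : M} (h1 : m1 ^ 3 = 1) (h2 : m2 ^ 3 = 1) (h : Commute m1 m2)
    (n1 : m1 ≠ 1) (n2 : m2 ∉ zpowers m1) (c1 : Commute c m1) (c2 : Commute c m2)
    (c8 : c ^ 8 = 1) : c * c = 1 ∨ c * c = t := by
  have := finM
  have : Fact (Nat.Prime 3) := ⟨by norm_num⟩
  have hS := pgroup_two h1 h2 h
  obtain ⟨g, hg⟩ := exists_conj_le hS (k := 2) (by
    obtain ⟨n, hn⟩ := IsPGroup.iff_card.1 hS
    have h3 : Nat.card (zpowers m1) < Nat.card (zpowers m1 ⊔ zpowers m2 : Subgroup M) :=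
      lt_of_not_ge fun e => n2 (eq_of_le_of_card_ge le_sup_left e ▸ mem_sup_right (mem_zpowers m2))
    rw [Nat.card_zpowers, orderOf_eq_prime h1 n1, hn] at h3
    rw [hn]
    exact Nat.pow_le_pow_right (by decide) (by
      by_contra h4
      interval_cases n <;> omega)) (by rw [cardM]; decide)
    (pgroup_two (gpow 𝟙 [42] 3) (gpow 𝟙 [44, 49, 46, 45] 3) (gq2 𝟙 _ _ _ _))
  have key : ∀ x, g * x * g⁻¹ ∈ zpowers m1 ⊔ zpowers m2 → g⁻¹ * c * g * x = x * (g⁻¹ * c * g) :=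
    fun x hx => by
      have := mem_centralizer_singleton_iff.1 ((sup_le (zpowers_le_of_mem
        (mem_centralizer_singleton_iff.2 c1.symm.eq)) (zpowers_le_of_mem
        (mem_centralizer_singleton_iff.2 c2.symm.eq)) : _ ≤ centralizer {c}) hx)
      calc _ = g⁻¹ * (c * (g * x * g⁻¹)) * g := by group
        _ = _ := by rw [← this]; group
  obtain ⟨w, hw, e⟩ := emb_id.sol S3 (by decide +kernel) (g := g⁻¹ * c * g) (tc _) (by
    simp only [S3_as, List.forall_mem_cons]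
    exact ⟨key _ (hg _ (mem_sup_left (mem_zpowers _))),
      key _ (hg _ (mem_sup_right (mem_zpowers _))), by simp⟩)
  have := (allL_iff _ _).1 (show allL S3_cs (fun c => or' (neP E bs KA (powW c 8) [])
    (or' (eqP E bs KA (appendR c c) []) (eqP E bs KA (appendR c c) [34]))) = true by
      decide +kernel) w hw
  simp only [or'_eq_true] at this
  have e2 : g⁻¹ * (c * c) * g = P 𝟙 (appendR w w) := by rw [appendR_eq, P_append, ← e]; group
  rcases this.resolve_left fun f => emb_id.ne _ _ f (by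
    rw [P_eq, ev_powW, map_pow, ← P_eq, ← e]
    simpa [P, c8] using conj_pow (a := g⁻¹) (b := c) (i := 8)) with f | f <;>
    rw [gq 𝟙 _ _ f] at e2
  · exact .inl (by simpa [P, mul_assoc] using congrArg (fun x => g * x * g⁻¹) e2)
  · right
    calc _ = g * (g⁻¹ * (c * c) * g) * g⁻¹ := by group
      _ = _ := by rw [e2]; exact mul_inv_eq_iff_eq_mul.2 (tc g)

theorem conj_even {a m z : M} (hz : z ∉ K0) (h : z * a = a * z) :
    ∃ b ∈ K0, b * a * b⁻¹ = m * a * m⁻¹ := by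
  by_cases hm : m ∈ K0
  · exact ⟨m, hm, rfl⟩
  · exact ⟨m * z, (mul_mem_iff_of_index_two K0_index).2 (iff_of_false hm hz), by
      rw [mul_assoc m, h]; group⟩

theorem n2_odd : l 38 ∉ K0 := fun h => z_odd
  ((mul_mem_cancel_left h).1 (even_of [38, 8]))

/-- the square roots of the central involution -/
theorem root_cls {j : M} (h : j * j = t) :
    ∃ b ∈ K0, b * j * b⁻¹ = l 8 * l 64 ∨ b * j * b⁻¹ = l 8 * l 64 * t := by
  obtain ⟨g, hg⟩ := conj_syl (m := j) (k := 2) (by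
    rw [show 2 ^ 2 = 2 * 2 from rfl, pow_mul, pow_two, pow_two, h]; exact t2)
  obtain ⟨k, hk, e⟩ := mo.exists_nf e0 (by decide) ss_pc (by decide +kernel) hg
  have h1 := (allLT_iff _ _).1 rt_cls k hk
  simp only [or'_eq_true, not'_eq_true, force_eq] at h1
  have h2 := gq2 𝟙 _ _ _ _ (h1.resolve_left (not_not.2 (eqO_of_eq mo hE hbas e0 (by
    change inK KA (appendR _ (appendR _ [])) = true
    have := inK_nfW (p := 2) (K := KA) (ss := ss) (by decide +kernel) k
    rw [appendR_eq, appendR_eq, List.append_nil]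
    exact (allL_iff _ _).2 fun a ha => (allL_iff _ _).1 this a (by simpa using ha))
    (by decide +kernel) (by
      rw [ev_powW, pow_two, e, conj_mul, h, tc, mul_inv_cancel_right]; exact P_eq 𝟙 [34]))))
  have h3 := gq2 𝟙 _ _ _ _ ((allLT_iff _ _).1 rt_cj _ (Nat.mod_lt (rt_T k) (by decide)))
  rw [P_eq 𝟙 (nfW 2 ss k), e] at h2
  change _ * (l 8 * l 64) = _ at h3
  generalize P 𝟙 (getL [] rt_reps _) = x at h2 h3
  generalize P 𝟙 (nfW 2 ss _) = y at h2
  generalize P 𝟙 (getL [] _ _) = z at h3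
  have h4 : (y * z)⁻¹ * g * j * ((y * z)⁻¹ * g)⁻¹ = l 8 * l 64 := by
    calc _ = z⁻¹ * (y⁻¹ * (g * j * g⁻¹ * y)) * z := by group
      _ = z⁻¹ * (x * z) := by rw [← show y * x = g * j * g⁻¹ * y from h2]; group
      _ = _ := by rw [← h3, inv_mul_cancel_left]
  generalize (y * z)⁻¹ * g = m at h4
  by_cases hm : m ∈ K0
  · exact ⟨m, hm, .inl h4⟩
  · refine ⟨l 8 * m, (mul_mem_iff_of_index_two K0_index).2 (iff_of_false z_odd hm), .inr ?_⟩
    calc _ = l 8 * (m * j * m⁻¹) * (l 8)⁻¹ := by group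
      _ = _ := by rw [h4, ← mul_assoc]; exact gq 𝟙 [8, 8, 64, 9] [8, 64, 34]

/-- the four-group generated by `t` and `u` -/
noncomputable def V : Subgroup M := zpowers t ⊔ zpowers u

theorem mem_V {x : M} : x ∈ V ↔ x = 1 ∨ x = t ∨ x = u ∨ x = t * u :=
  PLocal.mem_four_iff t2 (gsq 𝟙 [40]) (tc _).symm

theorem V_even {x : M} (h : x ∈ V) : x ∈ K0 :=
  (sup_le (zpowers_le_of_mem t_even) (zpowers_le_of_mem u_even) : V ≤ K0) h

theorem V_sq {x : M} (h : x ∈ V) : x * x = 1 := by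
  rcases mem_V.1 h with rfl | rfl | rfl | rfl
  exacts [one_mul 1, t2, gsq 𝟙 [40], gsq 𝟙 [34, 40]]

theorem V_comm {x y : M} (h : x ∈ V) (hy : y * u = u * y) : y * x = x * y :=
  (mem_centralizer_singleton_iff.1 ((sup_le (zpowers_le_of_mem (mem_centralizer_singleton_iff.2
    (tc y).symm)) (zpowers_le_of_mem (mem_centralizer_singleton_iff.2 hy.symm)) :
      V ≤ centralizer {y}) h)).symm

theorem i0u : l 68 * u = u * l 68 := gq 𝟙 [68, 40] [40, 68]

theorem root_sq {v w : M} (hv : v ∈ V) : l 68 * v * (l 68 * w) = u * (v * w) := by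
  rw [mul_assoc, ← mul_assoc v, ← V_comm hv i0u, ← show l 68 * l 68 = u from gq 𝟙 [68, 68] [40]]
  group

theorem cen_d' {m : M} (h0 : m * l 70 = l 70 * m) (h1 : m * l 72 = l 72 * m) :
    m ∈ V ∨ ∃ v ∈ V, m = l 68 * v := by
  obtain ⟨c, hc, rfl⟩ := emb_id.sol Sd (by decide +kernel) (g := m) (tc m) (by
    simp only [Sd_as, List.forall_mem_cons]; exact ⟨h0, h1, by simp⟩)
  have a : t ∈ V := mem_V.2 (.inr (.inl rfl))
  have b : u ∈ V := mem_V.2 (.inr (.inr (.inl rfl)))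
  simp only [Sd_cs, List.mem_cons, List.not_mem_nil, or_false] at hc
  rcases hc with rfl | rfl | rfl | rfl | rfl | rfl | rfl | rfl
  exacts [.inl (one_mem _), .inl a, .inr ⟨_, a, gq 𝟙 _ [68, 34]⟩, .inr ⟨_, one_mem _, (mul_one _).symm⟩,
    .inr ⟨_, mul_mem a b, (gq 𝟙 _ [68, 34, 40]).trans (mul_assoc _ _ _)⟩, .inr ⟨_, b, gq 𝟙 _ [68, 40]⟩,
    .inl (gq 𝟙 [34, 68, 68] [34, 40] ▸ mul_mem a b), .inl (gq 𝟙 [68, 68] [40] ▸ b)]

theorem cen_K0 {m : M} (h : ∀ a ∈ K0, m * a = a * m) : m = 1 ∨ m = t := by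
  have h4 := h _ y_even
  rcases cen_d' (h _ (even_of [70])) (h _ (even_of [72])) with e | ⟨v, e, rfl⟩ <;>
    rcases mem_V.1 e with rfl | rfl | rfl | rfl
  exacts [.inl rfl, .inr rfl, absurd h4 (emb_id.ne [40, 4] [4, 40]),
    absurd (h4.trans (mul_assoc _ _ _).symm) (emb_id.ne [34, 40, 4] [4, 34, 40]),
    absurd (by rwa [mul_one] at h4) (emb_id.ne [68, 4] [4, 68]),
    absurd (h4.trans (mul_assoc _ _ _).symm) (emb_id.ne [68, 34, 4] [4, 68, 34]),
    absurd (h4.trans (mul_assoc _ _ _).symm) (emb_id.ne [68, 40, 4] [4, 68, 40]),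
    absurd (by rwa [← mul_assoc, ← mul_assoc, ← mul_assoc] at h4)
      (emb_id.ne [68, 34, 40, 4] [4, 68, 34, 40])]

theorem comm_of_odd {m n : M} {k : ℕ} (hn : n ^ (2 * k + 1) = 1)
    (h : m * n = n * m ∨ m * n = n * m * t) : m * n = n * m := h.resolve_right fun e => t1 (by
  have e1 : m * n * m⁻¹ = n * t := by rw [e, mul_assoc n, tc m]; group
  have e2 := congrArg (· ^ (2 * k + 1)) e1
  simp only [conj_pow, (show Commute n t from tc n).mul_pow, hn] at e2
  rw [pow_succ, pow_mul, pow_two, t2] at e2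
  simpa using e2.symm)

/-- elements of order five centralising `u` -/
theorem five_conj {m d : M} (hm : m ^ 5 = 1) (m1 : m ≠ 1) (mu : m * u = u * m) (hd : d ^ 5 = 1)
    (du : d * u = u * d) : ∃ n ∈ K0, n * u = u * n ∧ d ∈ zpowers (n * m * n⁻¹) := by
  have := finM
  have : Fact (Nat.Prime 5) := ⟨by norm_num⟩
  let C : Subgroup M := K0 ⊓ centralizer {u}
  have mk : ∀ {x : M}, x ^ 5 = 1 → x * u = u * x → x ∈ C := fun e1 e2 =>
    ⟨mem_of_odd K0_index 2 e1, mem_centralizer_singleton_iff.2 e2⟩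
  obtain ⟨⟨n, n1, n2⟩, k, hk⟩ := exists_conj_zpowers (p := 5) (a := (⟨m, mk hm mu⟩ : C))
    (orderOf_eq_prime (Subtype.ext hm) fun e => m1 (congrArg Subtype.val e)) (fun e => absurd
      (e.trans ((card_dvd_of_le (H := C) (K := centralizer {t} ⊓ centralizer {u}) fun x hx =>
        ⟨mem_centralizer_singleton_iff.2 (tc x), hx.2⟩).trans emb_id.card_cenU.dvd)) (by decide))
    (x := ⟨d, mk hd du⟩) (Subtype.ext hd)
  replace hk : m ^ k = n * d * n⁻¹ := congrArg Subtype.val hk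
  exact ⟨n⁻¹, inv_mem n1, (Commute.inv_left (mem_centralizer_singleton_iff.1 n2)).eq, k, by
    simp only [conj_zpow, hk]; group⟩

end Cfsg.Agent.HNS
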