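import Cfsg.Agent.HNS.Gen4

/-! Passage to the quotient by the odd core. -/

set_option autoImplicit false
set_option maxRecDepth 100000

namespace Cfsg.Agent.HNS

open Subgroup Cfsg.Agent.Comp HNR HNR.DH

local notation "t" => l 34
local notation "u" => l 40

variable {G : Type*} [Group G] {ι : M →* G}

local notation "T" => ι (l 34)
local notation "U" => ι (l 40)
local notation "X" => ι (l 0)
local notation "Y" => ι (l 4)
local notation "Z" => ι (l 8)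
local notation "A" => ι (l 60)

theorem conj_z' [Finite G] (h : Emb ι ∨ ∃ r, E4 ι r) (hu : ¬ IsConj U T) (hj : IsConj (U * T) T)
    (hw : IsConj (A * Z) T) : ∃ k, R ι k 1 ∧ IsConj (Z * k) T := by
  rcases h with h | ⟨r, h⟩
  · obtain ⟨g, hg⟩ := isConj_iff.1 hj.symm
    exact ⟨1, R.one, (mul_one Z).symm ▸ h.conj_z hu ⟨g, by rw [hg, ← mul_assoc, ← t_cen],
      fun e => (h.ne [40] [] :) (mul_eq_right.1 (hg.symm.trans e))⟩⟩
  · by_contra hn
    exact h.hard (fun e => hn ⟨1, R.one, by rwa [mul_one]⟩) (fun e => hn ⟨r, h.rR, e⟩) hw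

theorem inv_f {f : G} (f5 : f ^ 5 = 1) (fx : X⁻¹ * f * X = f ^ 3) : T * f * T⁻¹ = f⁻¹ := by
  have e3 : X⁻¹ * f ^ 3 * X = (X⁻¹ * f * X) ^ 3 := by
    simpa using (conj_pow (a := X⁻¹) (b := f) (i := 3)).symm
  have e4 : T⁻¹ = X * X := (inv_eq_of_mul_eq_one_left (tt ι)).trans (gq ι [0, 0] [34]).symm
  rw [← inv_inv T, e4, eq_inv_iff_mul_eq_one]
  calc _ = X⁻¹ * (X⁻¹ * f * X) * X * f := by simp only [mul_inv_rev, mul_assoc, inv_inv]
    _ = _ := by rw [fx, e3, fx, ← pow_mul, ← pow_succ, show 3 * 3 + 1 = 5 * 2 from rfl, pow_mul, f5, one_pow]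

theorem exists_f' [Finite G] (h : Emb ι ∨ ∃ r, E4 ι r) (hz : IsConj Z T) : ∃ f : G, f ^ 5 = 1 ∧
    X⁻¹ * f * X = f ^ 3 ∧ f * Y = Y * f ∧ (Z * f) ^ 3 = 1 ∧ ∀ k, R ι k 1 →
      k * f * k⁻¹ ∈ zpowers f ∧ (k = 1 ∨ k = T ∨ k * Z = Z * T * k) := by
  have key : ∀ {f : G}, f ^ 5 = 1 → X⁻¹ * f * X = f ^ 3 → ∀ {k}, k = 1 ∨ k = T →
      k * f * k⁻¹ ∈ zpowers f ∧ (k = 1 ∨ k = T ∨ k * Z = Z * T * k) := by
    rintro f f5 fx k (rfl | rfl)
    exacts [⟨by simp, .inl rfl⟩, ⟨inv_f f5 fx ▸ inv_mem (mem_zpowers f), .inr (.inl rfl)⟩]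
  rcases h with h | ⟨r, h⟩
  · obtain ⟨ρ, r1, r2, r3⟩ := h.exists_rho hz
    obtain ⟨f, f5, fx, fy, fz, -⟩ := exists_f h r1 r2 (fun a ha => by
      simp only [List.mem_cons, List.not_mem_nil, or_false] at ha
      rcases ha with rfl | rfl | rfl | rfl | rfl | rfl
      exacts [r3 0 (by decide), r3 1 (by decide), r3 2 (by decide), r3 3 (by decide), r3 4 (by decide),
        r3 5 (by decide)])
    refine ⟨f, f5, fx, fy, fz, fun k hk => key f5 fx ?_⟩
    obtain ⟨m, rfl⟩ := h.cen k hk.comT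
    exact (cen_K0 fun a ha => h.inj (by rw [map_mul, map_mul, hk.comm ha])).imp
      (fun e => by rw [e, map_one]) (congrArg ι)
  · obtain ⟨ρ, r3, r1, r2⟩ := h.exists_rho hz
    obtain ⟨N, hN⟩ := h.exists_hf r1 (mul_mem r3 r3)
    obtain ⟨f, f5, fx, fy, fz, fr⟩ := h.exists_f hN r1 r2 (mul_mem r3 r3)
      (hN.sq ρ (CA.mono (by simp) r3)) (by
        rw [← conj_mul]
        exact hN.sq _ (CA.conj r3 [62] [[43, 47, 44, 48], [44, 43, 49, 46], [42, 45, 47, 49, 42]]))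
    refine ⟨f, f5, fx, fy, fz, fun k hk => ?_⟩
    rcases h.kl hk with ⟨-, e⟩ | ⟨-, rfl | rfl⟩
    · exact key f5 fx e
    · exact ⟨fr, .inr (.inr h.zr)⟩
    · obtain ⟨n, hn⟩ := fr
      refine ⟨⟨-n, ?_⟩, .inr (.inr (by rw [mul_assoc, h.zr, t_cen, mul_assoc, mul_assoc, ← mul_assoc Z, t_cen,
        mul_assoc]))⟩
      simp only at hn ⊢
      calc _ = T * (f ^ n) * T⁻¹ := by rw [← conj_zpow, inv_f f5 fx, inv_zpow']
        _ = _ := by rw [hn]; group

variable (ι) in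
/-- the projection modulo the odd core -/
noncomputable def pr : normalizer (OO ι : Set G) →* _ ⧸ (OO ι).subgroupOf (normalizer (OO ι : Set G)) :=
  QuotientGroup.mk' _

theorem pr_eq {x y : normalizer (OO ι : Set G)} : pr ι x = pr ι y ↔ (x : G)⁻¹ * y ∈ OO ι :=
  QuotientGroup.eq

theorem pr_surj : Function.Surjective (pr ι) := QuotientGroup.mk'_surjective _

theorem cenT {o : G} (ho : o ∈ OO ι) : T * o = o * T := (OO_r ho).comT.symm

namespace St

variable [Finite G] (h : St ι)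

/-- the embedding into the normaliser -/
noncomputable def hat : M →* normalizer (OO ι : Set G) :=
  ι.codRestrict _ fun m => h.nrm0 (t_cen ι m)

/-- the embedding into the quotient -/
noncomputable def bar := (pr ι).comp h.hat

omit [Finite G] in
theorem mk_eq {x : G} {m : M} (hx : R ι x m) : R ι ((ι m)⁻¹ * x) 1 := by
  simpa using (R_hom ι m).inv.mul hx

theorem rbar {x : normalizer (OO ι : Set G)} {m : M} (hx : R ι x m) : R h.bar (pr ι x) m :=
  fun a ha => congrArg (pr ι) (Subtype.ext (hx a ha) : x * h.hat a * x⁻¹ = h.hat _)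

variable (hj : IsConj (ι (l 40) * ι (l 34)) (ι (l 34)))
include hj

theorem bar_inj : Function.Injective h.bar := (injective_iff_map_eq_one _).2 fun m hm => by
  have e : ι m ∈ OO ι := (QuotientGroup.eq_one_iff (h.hat m)).1 hm
  exact (h.triv (R_hom ι m) (OO_r e)).resolve_right fun f => h.t1 (h.OO_sq hj (f ▸ e) h.tt)

theorem up {x : normalizer (OO ι : Set G)} (xx : (x : G) * x = 1) (e : IsConj (pr ι x) (h.bar t)) :
    ∃ g : normalizer (OO ι : Set G), (g : G) * x * g⁻¹ = T := by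
  obtain ⟨g, hg⟩ := isConj_iff.1 e
  obtain ⟨g, rfl⟩ := pr_surj g
  exact ⟨g, (h.eq_of_mod hj h.tt (Inv.conj_mul_self xx _) (fun _ => cenT)
    ((pr_eq (x := h.hat t) (y := g * x * g⁻¹)).1 hg.symm)).symm⟩

theorem down {x : normalizer (OO ι : Set G)} (e : IsConj (x : G) T) (c : (x : G) * T = T * x) :
    IsConj (pr ι x) (h.bar t) := by
  obtain ⟨g, hg⟩ := isConj_iff.1 e
  exact (pr ι).map_isConj (isConj_of (g := ⟨g, h.nrm hj hg c⟩) (Subtype.ext hg))

theorem upc {x : normalizer (OO ι : Set G)} (e : pr ι x * h.bar t = h.bar t * pr ι x) :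
    (x : G) * T = T * x :=
  mul_inv_eq_iff_eq_mul.1 (h.eq_of_mod hj h.tt (Inv.conj_mul_self h.tt _) (fun _ => cenT)
    ((pr_eq (x := h.hat t) (y := x * h.hat t * x⁻¹)).1 (mul_inv_eq_iff_eq_mul.2 e).symm)).symm

theorem upK {x : normalizer (OO ι : Set G)} (e : R h.bar (pr ι x) 1) : R ι x 1 := by
  obtain ⟨m, hm⟩ := h.act x (h.upc hj e.comT)
  exact hm.of_t (cen_K0 fun a ha => mul_inv_eq_iff_eq_mul.1 (h.bar_inj hj (by
    rw [← h.rbar hm a ha, e.comm ha, mul_inv_cancel_right])))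

theorem cases : Emb h.bar ∨ ∃ r, E4 h.bar r := by
  have key : ∀ g, g * h.bar t = h.bar t * g → ∃ m, ∃ k : normalizer (OO ι : Set G), R ι k 1 ∧
      g = h.bar m * pr ι k := fun g hg => by
    obtain ⟨x, rfl⟩ := pr_surj g
    obtain ⟨m, hm⟩ := h.act x (h.upc hj hg)
    exact ⟨m, (h.hat m)⁻¹ * x, mk_eq hm, by simp [bar]⟩
  have inn : ∀ k : normalizer (OO ι : Set G), (k : G) ∈ OO ι ∨ k * T ∈ OO ι →
      ∃ m, pr ι k = h.bar m := fun k e => e.elim
    (fun e => ⟨1, by rw [map_one]; exact (QuotientGroup.eq_one_iff _).2 e⟩) fun e =>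
      ⟨t⁻¹, by rw [map_inv, eq_inv_iff_mul_eq_one]; exact (QuotientGroup.eq_one_iff (k * h.hat t)).2 e⟩
  by_cases hk : ∀ k, R ι k 1 → k ∈ OO ι ∨ k * T ∈ OO ι
  · refine .inl ⟨h.bar_inj hj, fun g hg => ?_⟩
    obtain ⟨m, k, e, rfl⟩ := key g hg
    obtain ⟨n, f⟩ := inn k (hk k e)
    exact ⟨m * n, by rw [f, map_mul]⟩
  obtain ⟨r, hr⟩ := not_forall.1 hk
  obtain ⟨r1, r2⟩ := Classical.not_imp.1 hr
  let s : normalizer (OO ι : Set G) := ⟨r, h.nrm0 r1.comT⟩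
  have e1 : pr ι s * pr ι s = h.bar t := by
    rw [← inv_eq_of_mul_eq_one_left (HNR.tt h.bar), eq_inv_iff_mul_eq_one]
    exact (QuotientGroup.eq_one_iff (s * s * h.hat t)).2 (h.two hj r1 r1 r2 r2).2
  refine .inr ⟨pr ι s, h.bar_inj hj, e1, fun a ha => (h.rbar (x := s) r1).comm ha, fun g hg => ?_,
    h.down hj (x := h.hat u * h.hat t) hj (by
      change U * T * T = T * (U * T); rw [← mul_assoc, ← t_cen])⟩
  obtain ⟨m, k, e, rfl⟩ := key g hg
  by_cases f : (k : G) ∈ OO ι ∨ k * T ∈ OO ι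
  · obtain ⟨n, f⟩ := inn k f
    exact ⟨m * n, .inl (by rw [f, map_mul])⟩
  · obtain ⟨n, f⟩ := inn (k * s) (h.two hj e r1 f r2).1
    refine ⟨m * n * t⁻¹, .inr ?_⟩
    rw [map_mul, map_mul, ← f, map_inv, ← e1, map_mul]; group

include h

theorem out (hw : IsConj (A * Z) T) : ∃ v, IsConj v T ∧ R ι v (l 8) := by
  obtain ⟨k, hk, c⟩ := conj_z' (h.cases hj) (fun e => by
    obtain ⟨g, hg⟩ := h.up hj (x := h.hat u) h.uu e
    exact h.not_conj (isConj_of hg))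
    (h.down hj (x := h.hat u * h.hat t) hj (by change U * T * T = T * (U * T); rw [← mul_assoc, ← t_cen]))
    (h.down hj (x := h.hat (l 60) * h.hat (l 8)) hw (Commute.mul_left (t_cen ι _) (t_cen ι _)))
  obtain ⟨k, rfl⟩ := pr_surj k
  obtain ⟨g, hg⟩ := isConj_iff.1 c.symm
  obtain ⟨g, rfl⟩ := pr_surj g
  have e := OO_r ((pr_eq (x := h.hat (l 8) * k) (y := g * h.hat t * g⁻¹)).1 hg.symm)
  refine ⟨g * T * (g : G)⁻¹, (isConj_of rfl).symm, ?_⟩
  have := ((R_hom ι (l 8)).mul1 (h.upK hj hk)).mul1 e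
  rwa [show Z * k = (h.hat (l 8) * k :) from rfl, mul_inv_cancel_left] at this

theorem cenM (hz : IsConj Z T) (m : M) {o : G} (ho : o ∈ OO ι) : ι m * o = o * ι m :=
  mem_centralizer_singleton_iff.1 (gen_top (H := (centralizer {o}).comap ι)
    (mem_centralizer_singleton_iff.2 ((OO_r ho).comm x_even).symm)
    (mem_centralizer_singleton_iff.2 ((OO_r ho).comm y_even).symm)
    (mem_centralizer_singleton_iff.2 (h.cenO hj hz (t_cen ι _) ho)) m)

theorem lift (hz : IsConj Z T) : ∃ f : G, f ^ 5 = 1 ∧ X⁻¹ * f * X = f ^ 3 ∧ f * Y = Y * f ∧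
    (Z * f) ^ 3 = 1 ∧ (∀ o ∈ OO ι, f * o = o * f) ∧ ∀ k, R ι k 1 → k * f * k⁻¹ ∈ zpowers f ∧
      (k ∈ OO ι ∨ k * T ∈ OO ι ∨ k * Z * k⁻¹ = Z * T) := by
  obtain ⟨f, f5, fx, fy, fz, fk⟩ := exists_f' (h.cases hj) (h.down hj (x := h.hat (l 8)) hz (t_cen ι _))
  obtain ⟨f0, rfl⟩ := pr_surj f
  let D : normalizer (OO ι : Set G) → Prop := fun y =>
    (∀ o ∈ OO ι, (y : G) * o = o * y) ∧ T * y * T⁻¹ = (y : G)⁻¹
  have ti : T⁻¹ = T := inv_eq_of_mul_eq_one_left h.tt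
  have un : ∀ {y y'}, D y → D y' → pr ι y = pr ι y' → (y : G) = y' := fun {y y'} d d' e => by
    have k : ∀ {y}, D y → T * y * (T * y) = 1 := fun d => by
      have := d.2
      rw [ti] at this
      rw [← mul_assoc, this, inv_mul_cancel]
    exact mul_left_cancel (h.eq_of_mod hj (k d) (k d') (fun o ho =>
      Commute.mul_left (cenT ho) (d.1 o ho)) (by simpa [mul_assoc] using pr_eq.1 e))
  have dp : ∀ {y} (n : ℤ), D y → D (y ^ n) := fun n d =>
    ⟨fun o ho => (show Commute _ o from d.1 o ho).zpow_left n, by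
      rw [coe_zpow, ← conj_zpow, d.2, inv_zpow]⟩
  have dc : ∀ {y} (k : normalizer (OO ι : Set G)), (k : G) * T = T * k → D y → D (k * y * k⁻¹) :=
    fun {y} k hk d => ⟨fun o ho => by
      have := cj_comm (k : G) (d.1 _ ((mem_normalizer_iff.1 (inv_mem k.2) o).1 ho))
      simpa [mul_assoc] using this, by
      change T * (k * y * (k : G)⁻¹) * T⁻¹ = (k * y * (k : G)⁻¹)⁻¹
      calc _ = T * k * y * (T * k)⁻¹ := by group
        _ = k * (T * y * T⁻¹) * (k : G)⁻¹ := by rw [← hk]; group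
        _ = _ := by rw [d.2]; group⟩
  obtain ⟨f, d, e⟩ : ∃ f, D f ∧ pr ι f = pr ι f0 := by
    refine ⟨_, dp (y := h.hat t * (f0 * h.hat t * f0⁻¹)) 2 ⟨fun o ho =>
      Commute.mul_left (cenT ho) (cenO' f0.2 ho), ?_⟩, ?_⟩
    · change T * (T * (f0 * T * (f0 : G)⁻¹)) * T⁻¹ = (T * (f0 * T * (f0 : G)⁻¹))⁻¹
      rw [← mul_assoc, h.tt, one_mul, mul_inv_rev, inv_eq_of_mul_eq_one_left (Inv.conj_mul_self h.tt _)]
    · have := inv_f f5 fx
      rw [inv_eq_of_mul_eq_one_left (HNR.tt h.bar)] at this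
      rw [map_zpow, map_mul, map_mul, map_mul, map_inv, ← mul_assoc, ← mul_assoc]
      change (h.bar t * _ * h.bar t * _) ^ _ = _
      rw [this, ← mul_one (_ ^ _), ← f5]; group
  rw [← e] at f5 fx fy fz fk
  have f5' : (f : G) ^ 5 = 1 := by
    simpa using un (dp 5 d) (dp 0 d) (by simpa using f5)
  refine ⟨f, f5', ?_, ?_, ?_, d.1, fun k hk => ?_⟩
  · simpa [hat] using un (dc (h.hat (l 0))⁻¹ (Commute.inv_left (t_cen ι _)) d) (dp 3 d) (by simpa [bar] using fx)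
  · exact (mul_inv_eq_iff_eq_mul.1 (un (dc (h.hat (l 4)) (t_cen ι _) d) d
      (mul_inv_eq_iff_eq_mul.2 fy.symm))).symm
  · have o : (Z * f) ^ 3 ∈ OO ι := (QuotientGroup.eq_one_iff ((h.hat (l 8) * f) ^ 3)).1 fz
    have zi : Z⁻¹ = Z := inv_eq_of_mul_eq_one_left (gsq ι [8])
    refine h.OO_sq hj o ?_
    calc _ = f * ((Z * f) ^ 3 * ((f : G)⁻¹ * (T * ((Z * f) ^ 3 * T⁻¹)))) := by
          rw [← mul_assoc T, cenT o, ← mul_assoc (f : G), d.1 _ o]; group
      _ = f * ((Z * f) ^ 3 * ((f : G)⁻¹ * (T * Z * T⁻¹ * (T * f * T⁻¹)) ^ 3)) := by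
          rw [conj_mul, conj_pow, mul_assoc T]
      _ = _ := by
          rw [d.2, ← t_cen, mul_inv_cancel_right]
          nth_rw 2 [← zi]
          simp only [pow_succ, pow_zero, one_mul, mul_assoc, mul_inv_cancel_left, mul_inv_cancel]
  · let s : normalizer (OO ι : Set G) := ⟨k, h.nrm0 hk.comT⟩
    obtain ⟨⟨n, hn⟩, k2⟩ := fk _ (h.rbar (x := s) hk)
    refine ⟨⟨n, un (dp n d) (dc s hk.comT d) (by simpa using hn)⟩, k2.imp
      (fun e => (QuotientGroup.eq_one_iff s).1 e) (.imp (fun e => (QuotientGroup.eq_one_iff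
        (s * h.hat t)).1 ((congrArg (· * _) e).trans (HNR.tt h.bar))) fun e => ?_)⟩
    exact (h.eq_of_mod hj ((gq2 ι [8, 34] [8, 34] [] []).trans (one_mul 1))
      (Inv.conj_mul_self (gsq ι [8]) k) (fun o ho => Commute.mul_left (h.cenM hj hz _ ho) (cenT ho))
      ((pr_eq (x := h.hat (l 8) * h.hat t) (y := s * h.hat (l 8) * s⁻¹)).1
        (mul_inv_eq_iff_eq_mul.2 e).symm)).symm

end St

theorem R_congr {θ : M → G} (e : ∀ a ∈ K0, ι a = θ a) {g : G} {m : M} : R ι g m ↔ R θ g m :=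
  forall₂_congr fun a ha => by rw [e a ha, e _ (cjK m ha)]

theorem St.congr {θ : M → G} (h : St θ) (e : ∀ a ∈ K0, ι a = θ a) : St ι :=
  ⟨fun a _ b _ => map_mul ι a b, fun a ha b hb f => h.inj a ha b hb (by rwa [← e a ha, ← e b hb]),
    by simpa only [R_congr e, e _ t_even] using h.act, by simpa only [R_congr e, e _ t_even] using h.ti⟩

theorem St.exists_iota [Finite G] {θ : M → G} (h : St θ) (hj : IsConj (θ u * θ t) (θ t)) :
    ∃ ι : M →* G, St ι ∧ IsConj (ι u * ι t) (ι t) ∧ IsConj (ι (l 8)) (ι t) := by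
  obtain ⟨v, c, r⟩ : ∃ v, IsConj v (θ t) ∧ R θ v (l 8) := by
    obtain ⟨w, c, r | r⟩ := h.exists_out hj
    · exact ⟨w, c, r⟩
    have a : l 60 ∈ K0 := even_of [60]
    have aa : l 60 * l 60 = 1 := E4.aa (ι := MonoidHom.id M)
    have a2 : θ (l 60) * θ (l 60) = 1 := by rw [← h.mul _ a _ a, aa, h.one]
    obtain ⟨ι, e, f⟩ := h.exists_hom (v := θ (l 60) * w) (by
      rw [mul_assoc, ← mul_assoc w, r.fix a (gq2 (MonoidHom.id M) [60, 8] [60] [60] [60, 8]),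
        mul_assoc, sq_of_isConj c h.tt, mul_one, a2]) (by
      simpa [← mul_assoc, aa] using (h.r a).mul r)
    simpa only [R_congr e, e _ t_even] using (h.congr e).out (by rwa [e _ t_even, e _ u_even])
      (by rwa [f, e _ a, e _ t_even, ← mul_assoc, a2, one_mul])
  obtain ⟨ι, e, f⟩ := h.exists_hom (sq_of_isConj c h.tt) r
  exact ⟨ι, h.congr e, by rwa [e _ t_even, e _ u_even], by rwa [f, e _ t_even]⟩

end Cfsg.Agent.HNS
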