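import Cfsg.Agent.HNS.InM

/-! A standard subgroup which is a double cover of `HS`: the fusion of its central involution. -/

set_option autoImplicit false
set_option maxRecDepth 100000

namespace Cfsg.Agent.HNS

open Subgroup Cfsg.Agent.Comp HNR HNR.DH

local notation "𝟙" => MonoidHom.id M
local notation "t" => l 34
local notation "u" => l 40

variable {G : Type*} [Group G]

/-- `g` acts on the image of `K0` like `m` -/
def R (θ : M → G) (g : G) (m : M) : Prop := ∀ a ∈ K0, g * θ a * g⁻¹ = θ (m * a * m⁻¹)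

/-- the image of `K0` is a standard subgroup -/
structure St (θ : M → G) : Prop where
  mul : ∀ a ∈ K0, ∀ b ∈ K0, θ (a * b) = θ a * θ b
  inj : ∀ a ∈ K0, ∀ b ∈ K0, θ a = θ b → a = b
  act : ∀ g, g * θ t = θ t * g → ∃ m, R θ g m
  ti : ∀ g i, R θ i 1 → i * i = 1 → i ≠ 1 → R θ (g * i * g⁻¹) 1 → g * θ t = θ t * g

variable {θ : M → G}

local notation "T" => θ (l 34)
local notation "U" => θ (l 40)

theorem cjK (m : M) {a : M} (ha : a ∈ K0) : m * a * m⁻¹ ∈ K0 := K0_normal.conj_mem a ha m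

theorem R.mul {g k : G} {m n : M} (h1 : R θ g m) (h2 : R θ k n) : R θ (g * k) (m * n) :=
  fun a ha => by
    calc _ = g * (k * θ a * k⁻¹) * g⁻¹ := by group
      _ = _ := by rw [h2 a ha, h1 _ (cjK n ha)]; simp only [mul_assoc, mul_inv_rev]

theorem R.one : R θ 1 1 := fun a _ => by simp

theorem R.inv {g : G} {m : M} (h : R θ g m) : R θ g⁻¹ m⁻¹ := fun a ha => by
  have := h _ (cjK m⁻¹ ha)
  rw [show m * (m⁻¹ * a * m⁻¹⁻¹) * m⁻¹ = a by group] at this
  rw [← this]; group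

theorem R.pow {g : G} {m : M} (h : R θ g m) (n : ℕ) : R θ (g ^ n) (m ^ n) := by
  induction n with
  | zero => simpa using R.one
  | succ n ih => rw [pow_succ, pow_succ]; exact ih.mul h

theorem R.zpow {g : G} {m : M} (h : R θ g m) (n : ℤ) : R θ (g ^ n) (m ^ n) := by
  rcases n with n | n
  · simpa using h.pow n
  · simpa using (h.pow (n + 1)).inv

theorem R.conj {g k : G} {m n : M} (h1 : R θ g m) (h2 : R θ k n) :
    R θ (g * k * g⁻¹) (m * n * m⁻¹) := (h1.mul h2).mul h1.inv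

theorem R.conj1 {g k : G} {m : M} (h1 : R θ g m) (h2 : R θ k 1) : R θ (g * k * g⁻¹) 1 := by
  simpa using h1.conj h2

theorem R.mul1 {g k : G} {m : M} (h1 : R θ g m) (h2 : R θ k 1) : R θ (g * k) m := by
  simpa using h1.mul h2

theorem R.inv1 {k : G} (h : R θ k 1) : R θ k⁻¹ 1 := by simpa using h.inv

theorem R.comT {g : G} {m : M} (h : R θ g m) : g * T = T * g := by
  have := h _ t_even
  rwa [tc, mul_inv_cancel_right, mul_inv_eq_iff_eq_mul] at this

theorem R.mul_t {g : G} {m : M} (h : R θ g m) : R θ g (m * t) := fun a ha => by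
  rw [h a ha, mul_assoc m t, ← tc a]; simp only [mul_assoc, mul_inv_rev, mul_inv_cancel_left]

theorem R.of_t {g : G} {m : M} (h : R θ g m) (e : m = 1 ∨ m = t) : R θ g 1 := by
  rcases e with rfl | rfl
  · exact h
  · exact t2 ▸ h.mul_t

theorem R.comm {k : G} (h : R θ k 1) {a : M} (ha : a ∈ K0) : k * θ a = θ a * k := by
  simpa [mul_inv_eq_iff_eq_mul] using h a ha

theorem R.fix {g : G} {m a : M} (h : R θ g m) (ha : a ∈ K0) (e : m * a = a * m) :
    g * θ a = θ a * g := by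
  have := h a ha
  rwa [e, mul_inv_cancel_right, mul_inv_eq_iff_eq_mul] at this

namespace St

variable (h : St θ)
include h

theorem one : θ 1 = 1 := by simpa using h.mul 1 (one_mem _) 1 (one_mem _)

theorem inv {a : M} (ha : a ∈ K0) : θ a⁻¹ = (θ a)⁻¹ :=
  eq_inv_of_mul_eq_one_left (by rw [← h.mul _ (inv_mem ha) _ ha, inv_mul_cancel, h.one])

theorem pow {a : M} (ha : a ∈ K0) (n : ℕ) : θ (a ^ n) = θ a ^ n := by
  induction n with
  | zero => simpa using h.one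
  | succ n ih => rw [pow_succ, pow_succ, h.mul _ (pow_mem ha n) _ ha, ih]

theorem r {a : M} (ha : a ∈ K0) : R θ (θ a) a := fun b hb => by
  rw [h.mul _ (mul_mem ha hb) _ (inv_mem ha), h.mul _ ha _ hb, h.inv ha]

theorem comm {a b : M} (ha : a ∈ K0) (hb : b ∈ K0) (e : a * b = b * a) : θ a * θ b = θ b * θ a :=
  (h.r ha).fix hb e

theorem comm' {g : G} {m a : M} (hg : R θ g m) (ha : a ∈ K0) (e : g * θ a = θ a * g) :
    m * a = a * m := by
  have := hg a ha
  rw [e, mul_inv_cancel_right] at this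
  exact mul_inv_eq_iff_eq_mul.1 (h.inj _ ha _ (cjK m ha) this).symm

theorem tt : T * T = 1 := by rw [← h.mul _ t_even _ t_even, t2, h.one]

theorem t1 : T ≠ 1 := fun e => HNS.t1 (h.inj _ t_even _ (one_mem _) (e.trans h.one.symm))

theorem uu : U * U = 1 := by
  rw [← h.mul _ u_even _ u_even, ← h.one]; exact congrArg θ (gsq 𝟙 [40])

theorem rT : R θ T 1 := (h.r t_even).of_t (.inr rfl)

theorem triv {g : G} {m : M} (h1 : R θ g m) (h2 : R θ g 1) : m = 1 ∨ m = t :=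
  cen_K0 fun _ ha => h.comm' h1 ha (h2.comm ha)

theorem uniq {g : G} {m n : M} (h1 : R θ g m) (h2 : R θ g n) : m = n ∨ m = n * t :=
  (h.triv (g := g⁻¹ * g) (h2.inv.mul h1) (by simpa using R.one)).imp
    (fun e => by rw [← mul_inv_cancel_left n m, e, mul_one])
    fun e => by rw [← mul_inv_cancel_left n m, e]

theorem rcomm {g k : G} {m n : M} (h1 : R θ g m) (h2 : R θ k n) (e : g * k = k * g) :
    m * n = n * m ∨ m * n = n * m * t := h.uniq (h1.mul h2) (e ▸ h2.mul h1)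

theorem odd {g : G} (hg : g * T = T * g) {k : ℕ} (e : g ^ (2 * k + 1) = 1) :
    ∃ m, R θ g m ∧ m ^ (2 * k + 1) = 1 := by
  obtain ⟨m, hm⟩ := h.act g hg
  rcases h.triv (hm.pow (2 * k + 1)) (e ▸ R.one) with f | f
  · exact ⟨m, hm, f⟩
  · refine ⟨_, hm.mul_t, ?_⟩
    rw [(show Commute m t from tc m).mul_pow, f, pow_succ, pow_mul, pow_two, t2]
    simpa using t2

theorem dec {g : G} {a : M} (hg : R θ g a) (ha : a ∈ K0) : ∃ k, R θ k 1 ∧ g = θ a * k :=
  ⟨(θ a)⁻¹ * g, by simpa using (h.r ha).inv.mul hg, by group⟩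

theorem notK {s g : G} (hg : g * s * g⁻¹ = T) (hs : s ≠ T) : ¬ R θ (g * T * g⁻¹) 1 := fun e =>
  hs (by simpa using hg.trans (mul_inv_eq_iff_eq_mul.2 (h.ti g T h.rT h.tt h.t1 e)).symm)

theorem neT {s : G} {a : M} (hs : R θ s a) (h1 : a ≠ 1) (h2 : a ≠ t) : s ≠ T := fun e =>
  (h.triv hs (e ▸ h.rT)).elim h1 h2

omit h in
theorem cT {s g y : G} (hg : g * s * g⁻¹ = T) (e : y * s = s * y) :
    g * y * g⁻¹ * T = T * (g * y * g⁻¹) := hg ▸ cj_comm g e

theorem cdec {a j : M} {k : G} (ha : a ∈ K0) (hj : j ∈ K0) (hk : R θ k 1) :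
    θ a * (θ j * k) = θ j * k * θ a ↔ a * j = j * a := by
  rw [mul_assoc, hk.comm ha, ← mul_assoc, ← mul_assoc, mul_left_inj, ← h.mul _ ha _ hj,
    ← h.mul _ hj _ ha]
  exact ⟨h.inj _ (mul_mem ha hj) _ (mul_mem hj ha), congrArg θ⟩

/-- the elements of `K0` mapped into the centraliser of a conjugate of the standard subgroup -/
theorem pr_conj {g k : G} {j a : M} (hj : j ∈ K0) (hk : R θ k 1) (hg : g * (θ j * k) * g⁻¹ = T)
    (ha : a ∈ K0) (h1 : R θ (g * θ a * g⁻¹) 1) (n : List ℕ)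
    (hn : and' (and' (inK KA n) (Nat.beq (cd (evL E n 0)) 1)) (inK KA n) = true)
    (e : P 𝟙 n * j = j * P 𝟙 n) : R θ (g * θ (P 𝟙 n * a * (P 𝟙 n)⁻¹) * g⁻¹) 1 := by
  have h2 := even_of n ((and'_eq_true _ _).1 hn).1
  obtain ⟨m, hm⟩ := h.act _ (cT hg ((h.cdec h2 hj hk).2 e))
  rw [← h.r h2 a ha]
  convert hm.conj1 h1 using 1
  group

theorem pr_mul {g : G} {a b : M} (ha : a ∈ K0) (hb : b ∈ K0) (h1 : R θ (g * θ a * g⁻¹) 1)
    (h2 : R θ (g * θ b * g⁻¹) 1) : R θ (g * θ (a * b) * g⁻¹) 1 := by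
  rw [h.mul _ ha _ hb, ← conj_mul]; exact h1.mul1 h2

theorem no2B0 {k : G} (hk : R θ k 1) : ¬ IsConj (θ (l 8 * l 64) * k) T := fun hs => by
  obtain ⟨g, hg⟩ := isConj_iff.1 hs
  have hj : l 8 * l 64 ∈ K0 := even_of [8, 64]
  have kk : k * k = T := by
    have := sq_of_isConj hs h.tt
    rw [mul_assoc, ← mul_assoc k, hk.comm hj, mul_assoc, ← mul_assoc, ← h.mul _ hj _ hj,
      show l 8 * l 64 * (l 8 * l 64) = t from (gq2 𝟙 [8, 64] [8, 64] [34] []).trans (mul_one _)] at this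
    rw [← one_mul (k * k), ← h.tt, mul_assoc, this, mul_one]
  have nA : ¬ R θ (g * θ (l 60) * g⁻¹) 1 := fun e => by
    have a : l 60 ∈ K0 := even_of [60]
    have c : l 54 ∈ K0 := even_of [54]
    have := h.ti (g * θ (l 54) * g⁻¹) _ e (by
      rw [conj_mul, ← h.mul _ a _ a, show l 60 * l 60 = 1 from gsq 𝟙 [60], h.one]; simp)
      (fun f => (emb_id.ne [60] [] :) (h.inj _ a _ (one_mem _) ((conj_eq_one_iff.1 f).trans h.one.symm)))
      (by rwa [cj_comm g (h.comm c a (gq 𝟙 [54, 60] [60, 54])), mul_inv_cancel_right])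
    rw [← hg, conj_mul, conj_mul, mul_left_inj, mul_right_inj, h.cdec c hj hk] at this
    exact (emb_id.ne [54, 8, 64] [8, 64, 54] :) ((mul_assoc _ _ _).trans this)
  have cl : ∀ (a n n' : List ℕ), allL [a, n, n'] (fun n => and' (and' (and' (inK KA n)
      (Nat.beq (cd (evL E n 0)) 1)) (inK KA n)) (eqP E bs KA (appendR n [8, 64]) (appendR [8, 64] n))) = true →
      eqP E bs KA (appendR (appendR (appendR n a) (invW n)) (appendR (appendR n' a) (invW n'))) [60] = true →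
      ¬ R θ (g * θ (P 𝟙 a) * g⁻¹) 1 := fun a n n' h1 h2 e => by
    simp only [allL_iff, List.forall_mem_cons, and'_eq_true (and' _ _)] at h1
    have ha := even_of a h1.1.1.1
    have := h.pr_mul (cjK _ ha) (cjK _ ha)
      (h.pr_conj hj hk hg ha e n ((and'_eq_true _ _).2 h1.2.1.1) (gq2 𝟙 _ _ _ _ h1.2.1.2))
      (h.pr_conj hj hk hg ha e n' ((and'_eq_true _ _).2 h1.2.2.1.1) (gq2 𝟙 _ _ _ _ h1.2.2.1.2))
    have h3 := gq 𝟙 _ _ h2
    simp only [P_eq, ev_appendR, ev_invW, MonoidHom.id_apply] at h3 this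
    rw [h3] at this
    exact nA (by rwa [show l 60 = ev e0 ns [60] from P_eq 𝟙 [60]])
  have e1 : l 42 ∈ K0 := even_of [42]
  have e2 : P 𝟙 [44, 49, 46, 45] ∈ K0 := even_of _
  obtain ⟨m1, r1, p1⟩ := h.odd (k := 1) (cT hg ((h.cdec e1 hj hk).2 (gq2 𝟙 [42] [8, 64] [8, 64] [42])))
    (by rw [conj_pow, ← h.pow e1, show l 42 ^ _ = 1 from gpow 𝟙 [42] 3, h.one]; simp)
  obtain ⟨m2, r2, p2⟩ := h.odd (k := 1) (cT hg ((h.cdec e2 hj hk).2 (gq2 𝟙 _ [8, 64] [8, 64] _)))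
    (by rw [conj_pow, ← h.pow e2, gpow 𝟙 _ 3, h.one]; simp)
  obtain ⟨c, hc⟩ := h.act _ (cT hg (y := k) (by rw [← mul_assoc, hk.comm hj]))
  have n1 := cl [42] [46, 45] [] (by decide +kernel) (by decide +kernel)
  refine h.notK hg (h.neT ((h.r hj).mul1 hk) (emb_id.ne [8, 64] []) (emb_id.ne [8, 64] [34])) ?_
  rw [← kk, ← conj_mul]
  refine (hc.mul hc).of_t (sq_of_three p1 p2 (comm_of_odd p2 (h.rcomm r1 r2 (cj_comm g
    (h.comm e1 e2 (gq2 𝟙 [42] _ _ [42]))))) (fun e => n1 (e ▸ r1)) (fun e => ?_)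
    (comm_of_odd p1 (h.rcomm hc r1 (cj_comm g (hk.comm e1))))
    (comm_of_odd p2 (h.rcomm hc r2 (cj_comm g (hk.comm e2)))) ?_)
  · obtain ⟨i, hi, rfl⟩ := exists_pow_of_mem_zpowers (by decide) p1 e
    have r3 := (r2.mul r1)
    have r4 := (r3.mul r1)
    rw [conj_mul, ← h.mul _ e2 _ e1] at r3 r4
    rw [conj_mul, ← h.mul _ (mul_mem e2 e1) _ e1] at r4
    interval_cases i
    · exact cl [44, 49, 46, 45] [46, 48] [43, 47, 49] (by decide +kernel) (by decide +kernel) (by simpa using r2)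
    · rw [← pow_succ, ← pow_succ, p1] at r4
      exact cl [44, 49, 46, 45, 42, 42] [46] [42, 49] (by decide +kernel) (by decide +kernel) r4
    · rw [← pow_succ, p1] at r3
      exact cl [44, 49, 46, 45, 42] [48] [45, 47] (by decide +kernel) (by decide +kernel) r3
  · have := h.triv (hc.pow 4) (by
      rw [conj_pow, show k ^ 4 = k * k * (k * k) by simp only [pow_succ, pow_zero, one_mul, mul_assoc],
        kk, h.tt]; simpa using R.one)
    rw [show 8 = 4 * 2 from rfl, pow_mul, pow_two]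
    rcases this with e | e <;> rw [e]
    exacts [one_mul 1, t2]

theorem cj_dec {b j : M} {k : G} (hb : b ∈ K0) (hj : j ∈ K0) (hk : R θ k 1) :
    θ b * (θ j * k) * (θ b)⁻¹ = θ (b * j * b⁻¹) * k := by
  rw [← h.r hb j hj, mul_assoc _ (θ b)⁻¹, ← h.inv hb, ← hk.comm (inv_mem hb)]; group

/-- conjugates of `T` do not induce inner automorphisms lifting to elements of order four -/
theorem no2B {k : G} {j : M} (hk : R θ k 1) (jj : j * j = t) : ¬ IsConj (θ j * k) T := fun hs => by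
  have hj := even_of_sq jj
  obtain ⟨b, hb, e⟩ := root_cls jj
  have := (isConj_of (h.cj_dec hb hj hk)).symm.trans hs
  rcases e with e | e <;> rw [e] at this
  · exact h.no2B0 hk this
  · rw [h.mul (l 8 * l 64) (even_of [8, 64]) _ t_even, mul_assoc] at this
    exact h.no2B0 (h.rT.mul1 hk) this

theorem norm2A {s : G} {a : M} (hs : IsConj s T) (h1 : s ≠ T) (ha : a ∈ K0) (r : R θ s a) :
    ∃ b ∈ K0, ∃ k, R θ k 1 ∧ k * k = 1 ∧ θ b * s * (θ b)⁻¹ = U * k := by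
  obtain ⟨k, hk, rfl⟩ := h.dec r ha
  have ss := sq_of_isConj hs h.tt
  have aa := (h.triv (r.mul r) (ss ▸ R.one)).resolve_right fun e => h.no2B hk e hs
  rw [mul_assoc, ← mul_assoc k, hk.comm ha, mul_assoc, ← mul_assoc, ← h.mul _ ha _ ha, aa, h.one,
    one_mul] at ss
  have n1 : ¬ (a = 1 ∨ a = t) := fun e => by
    obtain ⟨g, hg⟩ := isConj_iff.1 hs.symm
    exact h1 (by rw [← hg, h.ti g T h.rT h.tt h.t1 (hg ▸ r.of_t e), mul_inv_cancel_right])
  obtain ⟨m, hm⟩ := even_cls ha aa fun e => n1 (.inl e)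
  have key : ∀ {x}, m * a * m⁻¹ = x → l 38 * x = x * l 38 → ∃ b ∈ K0, b * a * b⁻¹ = x := by
    rintro _ rfl e
    obtain ⟨b, hb, f⟩ := conj_even (m := m⁻¹) n2_odd e
    exact ⟨b⁻¹, inv_mem hb, by
      calc _ = b⁻¹ * (m⁻¹ * (m * a * m⁻¹) * m⁻¹⁻¹) * b := by group
        _ = _ := by rw [← f]; group⟩
  rcases hm with e | e | e
  · exact absurd (.inr (by
      rw [mul_inv_eq_iff_eq_mul, ← tc m] at e; exact mul_left_cancel e)) n1
  · obtain ⟨b, hb, f⟩ := key e (gq 𝟙 [38, 40] [40, 38])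
    exact ⟨b, hb, k, hk, ss, by rw [h.cj_dec hb ha hk, f]⟩
  · obtain ⟨b, hb, f⟩ := key e (gq2 𝟙 [38] [34, 40] [34, 40] [38])
    refine ⟨b, hb, T * k, h.rT.mul1 hk, ?_, ?_⟩
    · rw [mul_assoc, ← mul_assoc k, hk.comT, mul_assoc, ss, mul_one, h.tt]
    · rw [h.cj_dec hb ha hk, f, ← tc, h.mul _ u_even _ t_even, mul_assoc]

end St

end Cfsg.Agent.HNS
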