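import Cfsg.Agent.HNS.St

/-! Commuting conjugates of the central involution and the odd core of its centraliser. -/

set_option autoImplicit false
set_option maxRecDepth 100000

namespace Cfsg.Agent.HNS

open Subgroup Cfsg.Agent.Comp HNR HNR.DH

local notation "𝟙" => MonoidHom.id M
local notation "t" => l 34
local notation "u" => l 40

variable {G : Type*} [Group G] {θ : M → G}

local notation "T" => θ (l 34)
local notation "U" => θ (l 40)

variable (θ) in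
/-- the elements of odd order centralising the standard subgroup -/
def OO : Subgroup G := closure {k | R θ k 1 ∧ Odd (orderOf k)}

theorem OO_r {k : G} (hk : k ∈ OO θ) : R θ k 1 := by
  induction hk using closure_induction with
  | mem x hx => exact hx.1
  | one => exact R.one
  | mul x y _ _ h1 h2 => exact h1.mul1 h2
  | inv x _ h1 => exact h1.inv1

theorem mem_norm_OO [Finite G] {g : G}
    (h : ∀ k, R θ k 1 → Odd (orderOf k) → R θ (g * k * g⁻¹) 1) : g ∈ normalizer (OO θ : Set G) := by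
  refine mem_normalizer_fintype fun k hk => ?_
  exact (closure_le ((OO θ).comap (MulAut.conj g).toMonoidHom)).2 (fun k hk => subset_closure
    ⟨h k hk.1 hk.2, by
      change Odd (orderOf (MulAut.conj g k)); rw [MulEquiv.orderOf_eq]; exact hk.2⟩) hk

namespace St

variable (h : St θ)
include h

theorem c5 {g k : G} (hk : R θ k 1) (hg : g * (U * k) * g⁻¹ = T) (r : R θ (g * T * g⁻¹) u) {y : G}
    (y1 : y * (U * k) = U * k * y)
    (y2 : ∀ d ∈ K0, d * u = u * d → d ^ 5 = 1 → y * θ d = θ d * y) :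
    ∃ c, R θ (g * y * g⁻¹) c ∧ (c ∈ V ∨ ∃ v ∈ V, c = l 68 * v) := by
  have e0 : l 70 ∈ K0 := even_of [70]
  have n1 : U * k ≠ T := h.neT ((h.r u_even).mul1 hk) (emb_id.ne [40] []) (emb_id.ne [40] [34])
  obtain ⟨m, r0, p0⟩ := h.odd (k := 2) (cT hg ((h.cdec e0 u_even hk).2 (gq 𝟙 [70, 40] [40, 70])))
    (by rw [conj_pow, ← h.pow e0, show l 70 ^ _ = 1 from gpow 𝟙 [70] 5, h.one]; simp)
  have mu := (comm_of_odd p0 (h.rcomm r r0 (cj_comm g (h.comm t_even e0 (tc _).symm)))).symm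
  have m1 : m ≠ 1 := fun e => h.notK hg n1 (by
    rw [e] at r0
    have := h.pr_mul (mul_mem e0 (cjK _ e0)) (cjK _ e0) (h.pr_mul e0 (cjK _ e0) r0
      (h.pr_conj u_even hk hg e0 r0 [78] (by decide +kernel) (gq 𝟙 [78, 40] [40, 78])))
      (h.pr_conj u_even hk hg e0 r0 [79] (by decide +kernel) (gq 𝟙 [79, 40] [40, 79]))
    rwa [show l 70 * (P 𝟙 [78] * l 70 * (P 𝟙 [78])⁻¹) * (P 𝟙 [79] * l 70 * (P 𝟙 [79])⁻¹) = t from
      Eq.trans (by simp only [P, List.foldl, mul_assoc]; rfl)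
        (gq 𝟙 [70, 78, 70, 79, 79, 70, 78] [34])] at this)
  obtain ⟨c, hc⟩ := h.act _ (cT hg y1)
  have key : ∀ d : M, d ^ 5 = 1 → d * u = u * d → c * d = d * c := fun d d5 du => by
    obtain ⟨n, hn, nu, i, e⟩ := five_conj p0 m1 mu d5 du
    obtain ⟨k', hk', e1⟩ := h.dec r u_even
    have w1 : g⁻¹ * θ n * g * T = T * (g⁻¹ * θ n * g) := by
      have := (h.cdec hn u_even hk').2 nu
      rw [← e1] at this
      calc _ = g⁻¹ * (θ n * (g * T * g⁻¹)) * g := by group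
        _ = _ := by rw [this]; group
    have w2 : g⁻¹ * θ n * g * (U * k) = U * k * (g⁻¹ * θ n * g) := by
      have := (h.r hn).comT
      rw [← hg] at this
      calc _ = g⁻¹ * (θ n * (g * (U * k) * g⁻¹)) * g := by group
        _ = _ := by rw [this]; group
    obtain ⟨a, ha⟩ := h.act _ w1
    have w3 := ha _ e0
    have w4 := y2 _ (cjK a e0) ((h.cdec (cjK a e0) u_even hk).1 (by
      rw [← w3, ← mul_inv_cancel_right (U * k) (g⁻¹ * θ n * g), ← w2]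
      exact cj_comm _ ((h.cdec e0 u_even hk).2 (gq 𝟙 [70, 40] [40, 70]))))
      (by rw [conj_pow, show l 70 ^ _ = 1 from gpow 𝟙 [70] 5]; simp)
    have w5 := cj_comm g w4
    rw [← w3, show g * (g⁻¹ * θ n * g * θ (l 70) * (g⁻¹ * θ n * g)⁻¹) * g⁻¹ =
      θ n * (g * θ (l 70) * g⁻¹) * (θ n)⁻¹ by group] at w5
    have w6 := comm_of_odd (k := 2) (by rw [conj_pow, p0]; simp) (h.rcomm hc ((h.r hn).conj r0) w5)
    rw [← e]
    exact ((show Commute c _ from w6).zpow_right i).eq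
  exact ⟨c, hc, cen_d' (key _ (gpow 𝟙 [70] 5) (gq 𝟙 [70, 40] [40, 70]))
    (key _ (gpow 𝟙 [72] 5) (gq 𝟙 [72, 40] [40, 72]))⟩

omit h in
theorem ofV {g y : G} {c : M} (r : R θ (g * T * g⁻¹) u) (hc : R θ (g * y * g⁻¹) c) (hV : c ∈ V) :
    R θ (g * y * g⁻¹) 1 ∨ R θ (g * (y * T) * g⁻¹) 1 := by
  have := hc.mul r
  rw [conj_mul] at this
  rcases mem_V.1 hV with rfl | rfl | rfl | rfl
  exacts [.inl hc, .inl (hc.of_t (.inr rfl)), .inr (this.of_t (.inl (gsq 𝟙 [40]))),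
    .inr (this.of_t (.inr (gq 𝟙 [34, 40, 40] [34])))]

theorem memV {y : G} {c : M} (hc : R θ y c) (hV : c ∈ V ∨ ∃ v ∈ V, c = l 68 * v)
    (h2 : R θ (y * y) 1) : c ∈ V := hV.resolve_right fun ⟨v, hv, e⟩ => by
  have := h.triv (hc.mul hc) h2
  rw [e, root_sq hv, V_sq hv, mul_one] at this
  exact this.elim (emb_id.ne [40] []) (emb_id.ne [40] [34])

theorem kT {g k : G} (hk : R θ k 1) (kk : k * k = 1) (hg : g * (U * k) * g⁻¹ = T)
    (r : R θ (g * T * g⁻¹) u) : k = T := by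
  have n1 : U * k ≠ T := h.neT ((h.r u_even).mul1 hk) (emb_id.ne [40] []) (emb_id.ne [40] [34])
  have n2 : g * T ≠ T * g := fun e => n1 (by simpa using hg.trans (mul_inv_eq_iff_eq_mul.2 e).symm)
  obtain ⟨c, hc, hV⟩ := h.c5 hk hg r (y := U) (by rw [← mul_assoc, mul_assoc U k, hk.comm u_even, mul_assoc])
    fun d hd du _ => h.comm u_even hd du.symm
  have hT : R θ (g * (U * k) * g⁻¹) 1 := by rw [hg]; exact h.rT
  rcases ofV r hc (h.memV hc hV (by rw [conj_mul, h.uu]; simpa using R.one)) with f | f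
  · obtain rfl : k = 1 := by_contra fun k1 => n2 (h.ti g k hk kk k1 (by
      convert f.inv1.mul1 hT using 1; group))
    exfalso
    have i0 : l 68 ∈ K0 := even_of [68]
    obtain ⟨c, hc, hV⟩ := h.c5 hk hg r (y := θ (l 68)) ((h.cdec i0 u_even hk).2 i0u)
      fun d hd du d5 => h.comm i0 hd (by
        have := sq_comm_i0 (n := d ^ 3) ((show Commute d u from du).pow_left 3)
        rw [← pow_add, pow_succ, d5, one_mul] at this
        exact this.symm)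
    have h1 := ofV r hc (h.memV hc hV (by
      rw [conj_mul, ← h.mul _ i0 _ i0, show l 68 * l 68 = u from gq 𝟙 [68, 68] [40]]; exact f))
    rw [← h.mul _ i0 _ t_even] at h1
    have key : ∀ y : List ℕ, P 𝟙 y ∈ K0 → eqP E bs KA (appendR (appendR (appendR [36] y) [37]) y) [34] = true →
        ¬ R θ (g * θ (P 𝟙 y) * g⁻¹) 1 := fun y hy e1 e2 => h.notK hg n1 (by
      have := h.pr_mul (cjK _ hy) hy
        (h.pr_conj u_even hk hg hy e2 [36] (by decide +kernel) (gq 𝟙 [36, 40] [40, 36])) e2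
      have h3 := gq 𝟙 _ _ e1
      simp only [appendR_eq, P_append] at h3
      rwa [show P 𝟙 [36] * P 𝟙 y * (P 𝟙 [36])⁻¹ * P 𝟙 y = t from h3] at this)
    exact h1.elim (key [68] i0 (by decide +kernel))
      (key [68, 34] (mul_mem i0 t_even) (by decide +kernel))
  · have h1 : T * k = 1 := by_contra fun k1 => n2 (h.ti g _ (h.rT.mul1 hk) (by
      rw [mul_assoc, ← mul_assoc k, hk.comT, mul_assoc, kk, mul_one, h.tt]) k1 (by
      convert f.inv1.mul1 hT using 1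
      calc _ = g * ((θ t)⁻¹ * k) * g⁻¹ := by rw [inv_eq_of_mul_eq_one_left h.tt]
        _ = _ := by group))
    rw [← one_mul k, ← h.tt, mul_assoc, h1, mul_one]

theorem base {g k : G} (hk : R θ k 1) (hg : g * (U * k) * g⁻¹ = T) :
    ∃ b ∈ K0, θ b * g * (U * k) * (θ b * g)⁻¹ = T ∧ ∃ k', R θ k' 1 ∧ k' * k' = 1 ∧
      θ b * g * T * (θ b * g)⁻¹ = U * k' := by
  have n1 : U * k ≠ T := h.neT ((h.r u_even).mul1 hk) (emb_id.ne [40] []) (emb_id.ne [40] [34])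
  obtain ⟨m, hm⟩ := h.act _ (cT hg ((h.cdec x_even u_even hk).2 (gq 𝟙 [0, 40] [40, 0])))
  have r := hm.mul hm
  rw [conj_mul, ← h.mul _ x_even _ x_even, show l 0 * l 0 = t from gq 𝟙 [0, 0] [34]] at r
  obtain ⟨b, hb, k', h1, h2, h3⟩ := h.norm2A (isConj_of rfl).symm
    (fun e => n1 (by simpa using hg.trans e.symm)) (K0.mul_self_mem_of_index_two K0_index m) r
  refine ⟨b, hb, ?_, k', h1, h2, by rw [← h3]; group⟩
  calc _ = θ b * (g * (U * k) * g⁻¹) * (θ b)⁻¹ := by group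
    _ = _ := by rw [hg, (h.r hb).comT, mul_inv_cancel_right]

theorem kT' {k : G} (hk : R θ k 1) (kk : k * k = 1) (hs : IsConj (U * k) T) : k = T := by
  obtain ⟨g, hg⟩ := isConj_iff.1 hs
  obtain ⟨b, -, h1, k', h2, -, h3⟩ := h.base hk hg
  exact h.kT hk kk h1 (h3 ▸ (h.r u_even).mul1 h2)

theorem not_conj : ¬ IsConj U T := fun e =>
  h.t1 (h.kT' R.one (one_mul 1) (by rwa [mul_one])).symm

theorem inL {s : G} {a : M} (hs : IsConj s T) (h1 : s ≠ T) (ha : a ∈ K0) (r : R θ s a) :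
    ∃ b ∈ K0, θ b * s * (θ b)⁻¹ = U * T := by
  obtain ⟨b, hb, k, h1, h2, h3⟩ := h.norm2A hs h1 ha r
  exact ⟨b, hb, by rw [h3, h.kT' h1 h2 ((isConj_of h3).symm.trans hs)]⟩

theorem swap {g : G} (hg : g * (U * T) * g⁻¹ = T) : ∃ b ∈ K0,
    θ b * g * (U * T) * (θ b * g)⁻¹ = T ∧ θ b * g * T * (θ b * g)⁻¹ = U * T := by
  obtain ⟨b, hb, h1, k', h2, h4, h3⟩ := h.base h.rT hg
  exact ⟨b, hb, h1, by rw [h3, h.kT' h2 h4 (isConj_of h3).symm]⟩

section
variable {g : G} (g1 : g * (θ (l 40) * θ (l 34)) * g⁻¹ = θ (l 34))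
  (g2 : g * θ (l 34) * g⁻¹ = θ (l 40) * θ (l 34))
include g1 g2

theorem kact {k : G} (hk : R θ k 1) :
    ∃ c, R θ (g * k * g⁻¹) c ∧ (c ∈ V ∨ ∃ v ∈ V, c = l 68 * v) :=
  h.c5 h.rT g1 (g2 ▸ (h.r u_even).mul1 h.rT)
    ((Commute.mul_right (hk.comm u_even) hk.comT).eq) fun _ hd _ _ => hk.comm hd

variable [Finite G]

theorem k_odd {k : G} (hk : R θ k 1) : Odd (orderOf k) ↔ R θ (g * k * g⁻¹) 1 := by
  refine ⟨fun ho => ?_, fun e => ?_⟩
  · obtain ⟨c, hc, hV⟩ := h.kact g1 g2 hk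
    have c4 : c ^ 4 = 1 := by
      rw [show 4 = 2 * 2 from rfl, pow_mul, pow_two, pow_two]
      rcases hV with hV | ⟨v, hv, rfl⟩
      · rw [V_sq hV, one_mul]
      · rw [root_sq hv, V_sq hv, mul_one]; exact gsq 𝟙 [40]
    obtain ⟨n, hn⟩ : k ∈ zpowers (k ^ 4) :=
      mem_zpowers_pow_iff.2 ((Nat.coprime_two_left.2 ho).pow_left 2)
    have := (hc.pow 4).zpow n
    simp only at hn
    rwa [c4, one_zpow, conj_pow, conj_zpow, hn] at this
  · by_contra ho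
    obtain ⟨n, hn⟩ := Nat.not_odd_iff_even.1 ho
    have h0 := orderOf_pos k
    have := h.ti g (k ^ n) (by simpa using hk.pow n) (by rw [← pow_add, ← hn, pow_orderOf_eq_one])
      (pow_ne_one_of_lt_orderOf (by omega) (by omega)) (by simpa [conj_pow] using e.pow n)
    rw [this, mul_inv_cancel_right] at g2
    exact (emb_id.ne [40] [] :) (h.inj _ u_even _ (one_mem _) ((mul_eq_right.1 g2.symm).trans h.one.symm))

theorem mem_OO' {k : G} : k ∈ OO θ ↔ R θ k 1 ∧ R θ (g * k * g⁻¹) 1 := by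
  refine ⟨fun hk => ⟨OO_r hk, ?_⟩, fun hk => subset_closure ⟨hk.1, (h.k_odd g1 g2 hk.1).2 hk.2⟩⟩
  induction hk using closure_induction with
  | mem x hx => exact (h.k_odd g1 g2 hx.1).1 hx.2
  | one => simpa using R.one
  | mul x y _ _ h1 h2 => rw [← conj_mul]; exact h1.mul1 h2
  | inv x _ h1 => simpa [mul_assoc] using h1.inv1

theorem kin {k : G} {c : M} (hk : R θ k 1) (hc : R θ (g * k * g⁻¹) c) (hV : c ∈ V) :
    k ∈ OO θ ∨ k * T ∈ OO θ :=
  (ofV (g2 ▸ (h.r u_even).mul1 h.rT) hc hV).imp (fun e => (h.mem_OO' g1 g2).2 ⟨hk, e⟩)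
    fun e => (h.mem_OO' g1 g2).2 ⟨hk.mul1 h.rT, e⟩

end

variable [Finite G] (hj : IsConj (θ (l 40) * θ (l 34)) (θ (l 34)))
include hj

omit [Finite G] in
theorem exists_swap : ∃ g : G, g * (U * T) * g⁻¹ = T ∧ g * T * g⁻¹ = U * T := by
  obtain ⟨g, hg⟩ := isConj_iff.1 hj
  obtain ⟨b, -, e⟩ := h.swap hg
  exact ⟨_, e⟩

theorem OO_odd {k : G} (hk : k ∈ OO θ) : Odd (orderOf k) := by
  obtain ⟨g, g1, g2⟩ := h.exists_swap hj
  exact (h.k_odd g1 g2 (OO_r hk)).2 ((h.mem_OO' g1 g2).1 hk).2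

theorem OO_sq {k : G} (hk : k ∈ OO θ) (e : k * k = 1) : k = 1 :=
  orderOf_eq_one_iff.1 (Nat.Coprime.eq_one_of_dvd (Nat.coprime_two_right.2 (h.OO_odd hj hk))
    (orderOf_dvd_of_pow_eq_one (by rwa [pow_two])))

theorem two {k k' : G} (hk : R θ k 1) (hk' : R θ k' 1) (h1 : ¬ (k ∈ OO θ ∨ k * T ∈ OO θ))
    (h2 : ¬ (k' ∈ OO θ ∨ k' * T ∈ OO θ)) :
    (k * k' ∈ OO θ ∨ k * k' * T ∈ OO θ) ∧ k * k * T ∈ OO θ := by
  obtain ⟨g, g1, g2⟩ := h.exists_swap hj
  obtain ⟨c, hc, hV⟩ := h.kact g1 g2 hk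
  obtain ⟨c', hc', hV'⟩ := h.kact g1 g2 hk'
  obtain ⟨v, hv, rfl⟩ := hV.resolve_left fun e => h1 (h.kin g1 g2 hk hc e)
  obtain ⟨w, hw, rfl⟩ := hV'.resolve_left fun e => h2 (h.kin g1 g2 hk' hc' e)
  refine ⟨h.kin g1 g2 (hk.mul1 hk') (by rw [← conj_mul]; exact hc.mul hc') (root_sq hv ▸ mul_mem
    (mem_V.2 (.inr (.inr (.inl rfl)))) (mul_mem hv hw)), (h.mem_OO' g1 g2).2
      ⟨(hk.mul1 hk).mul1 h.rT, ?_⟩⟩
  have := (hc.mul hc).mul (g2 ▸ (h.r u_even).mul1 h.rT : R θ (g * T * g⁻¹) u)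
  rwa [conj_mul, conj_mul, root_sq hv, V_sq hv, mul_one, show u * u = 1 from gsq 𝟙 [40]] at this

end St

end Cfsg.Agent.HNS
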