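import Cfsg.Agent.HNS.St2

/-! Conjugates of the central involution inducing outer automorphisms. -/

set_option autoImplicit false
set_option maxRecDepth 100000

namespace Cfsg.Agent.HNS

open Subgroup Cfsg.Agent.Comp HNR HNR.DH

local notation "𝟙" => MonoidHom.id M
local notation "t" => l 34
local notation "u" => l 40

variable {G : Type*} [Group G] {θ : M → G}

local notation "T" => θ (l 34)
local notation "U" => θ (l 40)

namespace St

variable (h : St θ)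
include h

theorem outer {s : G} {m : M} (ss : s * s = 1) (r : R θ s m) (hm : m ∉ K0) : ∃ b ∈ K0,
    R θ (θ b * s * (θ b)⁻¹) (l 8) ∨ R θ (θ b * s * (θ b)⁻¹) (l 60 * l 8) := by
  have mm := (h.triv (r.mul r) (ss ▸ R.one)).resolve_right fun e => hm (even_of_sq e)
  obtain ⟨g, hg⟩ := emb_id.cls (tc m) mm fun e => hm (e ▸ one_mem _)
  obtain ⟨b, hb, e⟩ := conj_even (m := g) hm (rfl : m * m = m * m)
  have r1 := (h.r hb).conj r
  have n : g * m * g⁻¹ ∉ K0 := fun e => hm (by simpa [mul_assoc] using cjK g⁻¹ e)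
  rw [e] at r1
  change g * m * g⁻¹ = t ∨ g * m * g⁻¹ = u ∨ g * m * g⁻¹ = t * u ∨ g * m * g⁻¹ = l 8 ∨
    g * m * g⁻¹ = l 60 * l 8 at hg
  rcases hg with e | e | e | e | e <;> rw [e] at n r1
  exacts [absurd t_even n, absurd u_even n, absurd (mul_mem t_even u_even) n, ⟨b, hb, .inl r1⟩,
    ⟨b, hb, .inr r1⟩]

theorem exists_in {s : G} (hs : IsConj s T) (hc : s * T = T * s) (h1 : s ≠ T) :
    IsConj (U * T) T := by
  have k0 : ∀ {s : G} {m : M}, IsConj s T → s ≠ T → m ∈ K0 → R θ s m → IsConj (U * T) T :=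
    fun h1 h2 h3 h4 => by
      obtain ⟨b, -, e⟩ := h.inL h1 h2 h3 h4
      exact (isConj_of e).symm.trans h1
  have key : ∀ {s : G} {x : M} (a y : M), IsConj s T → R θ s x → a ∈ K0 → y ∈ K0 →
      x * y = y * x → a * (x * a⁻¹ * x⁻¹) = y * y → y * y ≠ 1 → IsConj (U * T) T := by
    intro s x a y h1 r ha hy e1 e2 e3
    obtain ⟨g, hg⟩ := isConj_iff.1 h1
    obtain ⟨n, hn⟩ := h.act _ (cT hg (r.fix hy e1).symm)
    have e4 : θ a * s * (θ a)⁻¹ = θ y * θ y * s := by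
      rw [← h.mul _ hy _ hy, ← e2, h.mul _ ha _ (cjK x (inv_mem ha)), ← r _ (inv_mem ha), h.inv ha]
      group
    refine k0 (s := g * (θ y * θ y * s) * g⁻¹) ((isConj_of rfl).symm.trans
      ((isConj_of e4).symm.trans h1)) (fun e => e3 (h.inj _ (mul_mem hy hy) _ (one_mem _) ?_))
      (K0.mul_self_mem_of_index_two K0_index n) ?_
    · rw [h.mul _ hy _ hy, h.one]; simpa using e.trans hg.symm
    · rw [← conj_mul, ← conj_mul, hg]; exact (hn.mul hn).mul1 h.rT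
  obtain ⟨m, hm⟩ := h.act s hc
  by_cases e : m ∈ K0
  · exact k0 hs h1 e hm
  obtain ⟨b, -, r | r⟩ := h.outer (sq_of_isConj hs h.tt) hm e
  · exact key (P 𝟙 [233]) (l 230) ((isConj_of rfl).symm.trans hs) r (even_of _) (even_of [230])
      (gq 𝟙 [8, 230] [230, 8]) (Eq.trans (by simp only [P, List.foldl, mul_assoc]; rfl)
        (gq 𝟙 [233, 8, 232, 9] [230, 230])) (emb_id.ne [230, 230] [])
  · refine key (P 𝟙 [50, 235]) (P 𝟙 [10, 1, 44, 90]) ((isConj_of rfl).symm.trans hs) r (even_of _)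
      (even_of _) (gq2 𝟙 [60, 8] _ _ [60, 8]) ?_ (P_append 𝟙 _ _ ▸ emb_id.ne _ [])
    rw [← mul_assoc, ← mul_assoc, mul_inv_eq_iff_eq_mul, mul_inv_eq_iff_eq_mul, ← P_append]
    exact (gq2 𝟙 _ [60, 8] ([10, 1, 44, 90] ++ [10, 1, 44, 90] ++ [60, 8]) [50, 235]).trans
      (by rw [P_append]; rfl)

section
variable (hj : IsConj (θ (l 40) * θ (l 34)) (θ (l 34)))
include hj

theorem conjTU (g a : List ℕ)
    (e : eqP E bs KA (appendR g [34, 40]) (appendR a g) = true := by decide +kernel) :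
    IsConj (θ (P 𝟙 a)) T := by
  obtain ⟨b, hb, f⟩ := conj_even (m := P 𝟙 g) n2_odd (gq2 𝟙 [38] [34, 40] [34, 40] [38])
  have e1 := h.r hb _ (mul_mem t_even u_even)
  rw [show b * (t * u) * b⁻¹ = P 𝟙 a from f.trans (mul_inv_eq_iff_eq_mul.2 (gq2 𝟙 _ _ _ _ e)),
    ← tc, h.mul _ u_even _ t_even] at e1
  exact (isConj_of e1).symm.trans hj

theorem exists_out : ∃ w, IsConj w T ∧ (R θ w (l 8) ∨ R θ w (l 60 * l 8)) := by
  obtain ⟨g, hg⟩ := isConj_iff.1 hj
  have j2 : l 74 ∈ K0 := even_of [74]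
  have c2 : IsConj (g * θ (l 74) * g⁻¹) T :=
    (isConj_of rfl).symm.trans (h.conjTU hj [4, 22, 0, 26, 14, 25, 22] [74])
  obtain ⟨m, hm⟩ := h.act _ (cT hg ((h.cdec j2 u_even h.rT).2 (gq 𝟙 [74, 40] [40, 74])))
  have e : m ∉ K0 := fun e => by
    obtain ⟨b, hb, f⟩ := h.inL c2 (fun f => (emb_id.ne [74] [40, 34] :)
      (h.inj _ j2 _ (mul_mem u_even t_even) (by
        change _ = θ (u * t)
        rw [h.mul _ u_even _ t_even]; simpa using f.trans hg.symm))) e hm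
    refine h.not_conj ((isConj_of (g := θ b * g) ?_).symm.trans
      (h.conjTU hj [22, 12, 5, 18, 17, 28] [40, 34, 74]))
    change _ * θ (u * t * l 74) * _ = _
    rw [h.mul _ (mul_mem u_even t_even) _ j2, h.mul _ u_even _ t_even]
    calc _ = θ b * (g * (U * T) * g⁻¹) * (θ b)⁻¹ * (θ b * (g * θ (l 74) * g⁻¹) * (θ b)⁻¹) := by group
      _ = _ := by
        rw [hg, f, (h.r hb).comT, mul_inv_cancel_right, (h.r u_even).comT, ← mul_assoc, h.tt, one_mul]
  obtain ⟨b, -, r⟩ := h.outer (sq_of_isConj c2 h.tt) hm e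
  exact ⟨_, (isConj_of rfl).symm.trans c2, r⟩

end

variable [Finite G]

theorem nrm0 {g : G} (hg : g * T = T * g) : g ∈ normalizer (OO θ : Set G) := by
  obtain ⟨m, hm⟩ := h.act g hg
  exact mem_norm_OO fun k hk _ => hm.conj1 hk

theorem nrm2 {x g : G} {a : M} (hg : g * x * g⁻¹ = T) (h1 : x ≠ T) (ha : a ∈ K0) (r : R θ x a) :
    g ∈ normalizer (OO θ : Set G) := by
  obtain ⟨b, hb, e⟩ := h.inL (isConj_of hg) h1 ha r
  obtain ⟨c, hc, g1, g2⟩ := h.swap (g := g * (θ b)⁻¹) (by rw [← e, ← hg]; group)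
  have := mem_norm_OO fun k hk ho => (h.k_odd g1 g2 hk).1 ho
  rwa [mul_mem_cancel_left (h.nrm0 (h.r hc).comT),
    mul_mem_cancel_right (inv_mem (h.nrm0 (h.r hb).comT))] at this

variable (hj : IsConj (θ (l 40) * θ (l 34)) (θ (l 34)))
include hj

theorem nrm {x g : G} (hg : g * x * g⁻¹ = T) (hc : x * T = T * x) :
    g ∈ normalizer (OO θ : Set G) := by
  by_cases h1 : x = T
  · exact h.nrm0 (mul_inv_eq_iff_eq_mul.1 (h1 ▸ hg))
  obtain ⟨m, hm⟩ := h.act x hc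
  by_cases e : m ∈ K0
  · exact h.nrm2 hg h1 e hm
  obtain ⟨b, hb, r⟩ := h.outer (sq_of_isConj (isConj_of hg) h.tt) hm e
  obtain ⟨z, hz, r, e1⟩ : ∃ z, z ∉ K0 ∧ R θ (θ b * x * (θ b)⁻¹) z ∧
      z * P 𝟙 [43, 44, 46, 49, 46] = P 𝟙 [43, 44, 46, 49, 46] * z :=
    r.elim (fun r => ⟨_, z_odd, r, gq2 𝟙 [8] _ _ [8]⟩) fun r => ⟨_, w_odd, r, gq2 𝟙 [60, 8] _ _ [60, 8]⟩
  have hy := even_of [43, 44, 46, 49, 46]
  have a : l 60 ∈ K0 := even_of [60]
  have g1 : g * (θ b)⁻¹ * (θ b * x * (θ b)⁻¹) * (g * (θ b)⁻¹)⁻¹ = T := by rw [← hg]; group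
  rw [← mul_mem_cancel_right (inv_mem (h.nrm0 (h.r hb).comT))]
  generalize g * (θ b)⁻¹ = g at g1
  generalize θ b * x * (θ b)⁻¹ = x at g1 r
  obtain ⟨k, hk⟩ := isConj_iff.1 (h.conjTU hj [0, 17, 0, 27, 14, 16, 30] [60])
  obtain ⟨n, hn⟩ := h.act _ (cT g1 (r.fix hy e1).symm)
  have r2 := hn.mul hn
  rw [conj_mul, ← h.mul _ hy _ hy, show _ * _ = l 60 from
    (gq2 𝟙 [43, 44, 46, 49, 46] [43, 44, 46, 49, 46] [60] []).trans (mul_one _)] at r2
  have n1 := h.nrm2 hk (h.neT (h.r a) (emb_id.ne [60] []) (emb_id.ne [60] [34])) a (h.r a)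
  have n2 := h.nrm2 (x := g * θ (l 60) * g⁻¹) (g := k * g⁻¹) (by rw [← hk]; change _ = k * θ (l 60) * _; group)
    (fun f => by
      have f1 : θ (l 60) = x := by simpa using f.trans g1.symm
      rcases h.uniq r (f1 ▸ h.r a) with e | e
      exacts [hz (e ▸ a), hz (e ▸ mul_mem a t_even)])
    (K0.mul_self_mem_of_index_two K0_index n) r2
  rwa [mul_mem_cancel_left n1, inv_mem_iff] at n2

omit h hj [Finite G] in
theorem cenO' {g o : G} (hg : g ∈ normalizer (OO θ : Set G)) (ho : o ∈ OO θ) :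
    g * T * g⁻¹ * o = o * (g * T * g⁻¹) := by
  have := (OO_r ((mem_normalizer_iff.1 (inv_mem hg) o).1 ho)).comT
  calc _ = g * (T * (g⁻¹ * o * g⁻¹⁻¹)) * g⁻¹ := by group
    _ = _ := by rw [← this]; group

theorem cenO {x o : G} (hx : IsConj x T) (hc : x * T = T * x) (ho : o ∈ OO θ) : x * o = o * x := by
  obtain ⟨g, hg⟩ := isConj_iff.1 hx
  have := cenO' (inv_mem (h.nrm hj hg hc)) ho
  rwa [← hg, show g⁻¹ * (g * x * g⁻¹) * g⁻¹⁻¹ = x by group] at this

/-- involutions centralising `O` and congruent modulo `O` are equal -/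
theorem eq_of_mod {x y : G} (xx : x * x = 1) (yy : y * y = 1) (hx : ∀ o ∈ OO θ, x * o = o * x)
    (e : x⁻¹ * y ∈ OO θ) : x = y := by
  have := h.OO_sq hj e (by
    have e1 := hx _ e
    rw [mul_inv_cancel_left, inv_eq_of_mul_eq_one_left xx] at e1
    rw [inv_eq_of_mul_eq_one_left xx, ← mul_assoc, ← e1, yy])
  rw [← mul_inv_cancel_left x y, this, mul_one]

omit hj [Finite G] in
theorem exists_hom {v : G} (vv : v * v = 1) (r : R θ v (l 8)) :
    ∃ ι : M →* G, (∀ a ∈ K0, ι a = θ a) ∧ ι (l 8) = v := by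
  classical
  have zi : (l 8)⁻¹ = l 8 := inv_eq_of_mul_eq_one_left zz
  have ev : ∀ {a}, a ∉ K0 → a * l 8 ∈ K0 := fun h =>
    (mul_mem_iff_of_index_two K0_index).2 (iff_of_false h z_odd)
  have fh : ∀ a ∈ K0, v * θ a = θ (l 8 * a * (l 8)⁻¹) * v := fun a ha =>
    mul_inv_eq_iff_eq_mul.1 (r a ha)
  refine ⟨MonoidHom.mk' (fun m => if m ∈ K0 then θ m else θ (m * l 8) * v) fun a b => ?_,
    fun a ha => if_pos ha, (if_neg z_odd).trans (by rw [zz, h.one, one_mul])⟩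
  by_cases ha : a ∈ K0 <;> by_cases hb : b ∈ K0
  · simp only [ha, hb, mul_mem ha hb, if_true, h.mul a ha b hb]
  · have : a * b ∉ K0 := fun e => hb ((mul_mem_cancel_left ha).1 e)
    simp only [ha, hb, this, if_true, if_false]
    rw [mul_assoc a, h.mul a ha _ (ev hb), mul_assoc]
  · have : a * b ∉ K0 := fun e => ha ((mul_mem_cancel_right hb).1 e)
    simp only [ha, hb, this, if_true, if_false]
    rw [mul_assoc _ v, fh b hb, ← mul_assoc, ← h.mul _ (ev ha) _ (cjK _ hb), zi]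
    congr 2
    calc _ = a * (l 8 * l 8) * b * l 8 := by rw [zz, mul_one]
      _ = _ := by group
  · have : a * b ∈ K0 := (mul_mem_iff_of_index_two K0_index).2 (iff_of_false ha hb)
    simp only [ha, hb, this, if_true, if_false]
    rw [mul_assoc _ v, ← mul_assoc v, fh _ (ev hb), mul_assoc _ v, vv, mul_one,
      ← h.mul _ (ev ha) _ (cjK _ (ev hb))]
    congr 1
    calc _ = a * (l 8 * l 8) * b := by rw [zz, mul_one]
      _ = _ := by group

end St

theorem R_hom (ι : M →* G) (m : M) : R ι (ι m) m := fun a _ => by simp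

end Cfsg.Agent.HNS
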