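import Cfsg.Agent.HNS.St3
import Cfsg.Agent.Std.RedK2

/-! The set-up coming from a standard subgroup. -/

set_option autoImplicit false
set_option maxRecDepth 100000

namespace Cfsg.Agent.HNS

open Subgroup Cfsg.Agent.Comp HNR HNR.DH

local notation "t" => l 34
local notation "u" => l 40

theorem aut_K0 (α : MulAut K0) : ∃ m : M, ∀ a : K0, (α a : M) = m * a * m⁻¹ := by
  have := finM
  have := K0_normal
  obtain ⟨-, -, hc, ha⟩ := cov_facts K0_cov (w := ⟨t, t_even⟩)
    (mem_center_iff.2 fun g => Subtype.ext (tc g)) fun e => t1 (congrArg Subtype.val e)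
  have hs : Function.Surjective (MulAut.conjNormal : M →* MulAut K0) := by
    rw [← MonoidHom.range_eq_top, ← card_eq_iff_eq_top]
    refine le_antisymm (card_le_card_group _) (ha.trans ?_)
    have h1 := (MulAut.conjNormal : M →* MulAut K0).ker.card_mul_index
    have h2 : Nat.card (MulAut.conjNormal : M →* MulAut K0).ker ≤ 2 := by
      rw [← Set.ncard_pair t1.symm]
      refine Set.ncard_le_ncard (fun g hg => cen_K0 fun k hk => ?_)
      exact mul_inv_eq_iff_eq_mul.1 (congrArg Subtype.val (DFunLike.congr_fun hg (⟨k, hk⟩ : K0)))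
    rw [index_ker, cardM] at h1
    nlinarith
  obtain ⟨m, rfl⟩ := hs α
  exact ⟨m, fun _ => rfl⟩

theorem exists_st {G : Type*} [Group G] [Finite G] [IsSimpleGroup G] (hG : ¬ IsMulCommutative G)
    {L : Subgroup G} (hL : IsStandardSubgroup L) (h2 : Nat.card (center L) = 2)
    (e : L ⧸ center L ≃* Spor.HS) : ∃ θ : M → G, St θ ∧ IsConj (θ u * θ t) (θ t) := by
  classical
  have := finM
  have hC : IsNonsplitDoubleCover L Spor.HS := by
    refine ⟨h2, ⟨e⟩, fun M hM => ?_⟩
    have h1 : M.index = 2 := hM.index_eq_card.trans h2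
    have := normal_of_index_eq_two h1
    have h3 : IsCyclic (L ⧸ M) := isCyclic_of_prime_card (p := 2) h1
    have h4 : _root_.commutator L ≤ M :=
      (Normal.quotient_commutative_iff_commutator_le (N := M)).1 inferInstance
    rw [hL.1.1.1, top_le_iff] at h4
    rw [h4, index_top] at h1
    omega
  obtain ⟨z, hz, h0, h1, hZ⟩ := Std.exists_center_inv h2
  obtain ⟨⟨π, hπ⟩, -⟩ := cov_facts hC (w := ⟨z, h0⟩)
    (mem_center_iff.2 fun g => Subtype.ext (h1 g g.2))
    fun e => by simp [show z = 1 from congrArg Subtype.val e] at hz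
  obtain ⟨⟨σ, hσ⟩, -⟩ := cov_facts K0_cov (w := ⟨t, t_even⟩)
    (mem_center_iff.2 fun g => Subtype.ext (tc g)) fun e => t1 (congrArg Subtype.val e)
  obtain ⟨ψ, hψ⟩ := TT.DCov.exists_equiv (Spor.ModelHS.equiv.trans
    (MulEquiv.subgroupCongr Spor.MultHS.geq)) Spor.MultHS.m2_bound (n := 1) (by norm_num)
    (σ := fun _ => σ) (fun _ => hσ) (fun i j h => absurd (Subsingleton.elim i j) h) hπ
  let θ : M → G := fun m => if hm : m ∈ K0 then ψ ⟨m, hm⟩ else 1
  have f0 : ∀ m : K0, θ m = ψ m := fun m => dif_pos m.2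
  have ft : θ t = z := (f0 ⟨t, t_even⟩).trans (congrArg Subtype.val hψ)
  have r1 : ∀ {k}, R θ k 1 → k ∈ centralizer (L : Set G) := fun h x hx => by
    have := h.comm (ψ.symm ⟨x, hx⟩).2
    rw [f0, ψ.apply_symm_apply] at this
    exact this.symm
  have h : St θ := by
    refine ⟨fun a ha b hb => (f0 (⟨a, ha⟩ * ⟨b, hb⟩)).trans (by rw [map_mul, coe_mul, ← f0, ← f0]),
      fun a ha b hb e => congrArg Subtype.val (ψ.injective (Subtype.ext
        ((f0 ⟨a, ha⟩).symm.trans (e.trans (f0 ⟨b, hb⟩))))), fun g hg => ?_, fun g i e1 e2 e3 e4 => ?_⟩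
    · obtain ⟨m, hm⟩ := aut_K0 (MulAut.congr ψ.symm (L.normalizerMonoidHom
        ⟨g, Std.mem_normalizer_of_commute hL hz h1 (ft ▸ hg)⟩))
      refine ⟨m, fun a ha => ?_⟩
      rw [← hm ⟨a, ha⟩, f0, show θ a = _ from f0 ⟨a, ha⟩]
      simp only [MulAut.congr_apply, MulEquiv.trans_apply, MulEquiv.apply_symm_apply, MulEquiv.symm_symm]
      rfl
    · exact ft ▸ Std.commute_of_mem_normalizer h0 h1 hZ (PLocal.Std.mem_normalizer hL
        (orderOf_eq_prime (by rwa [pow_two]) e3) (r1 e1) (r1 e4))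
  obtain ⟨g, g1, g2⟩ := Std.exists_conj' hG hL hz h0 h1
  rw [← ft] at g1 g2
  exact ⟨θ, h, h.exists_in (isConj_of rfl).symm g2.symm g1⟩

end Cfsg.Agent.HNS
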