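import Cfsg.Agent.HNS.E4
import Cfsg.Agent.HNR.Main
import Cfsg.Agent.S0111

/-! Transfer in the centraliser of `A₅`, and the conjugates of `T` commuting with `T`. -/

set_option autoImplicit false
set_option maxRecDepth 100000

namespace Cfsg.Agent.HNS

open Subgroup Cfsg.Agent.Comp HNR HNR.DH

local notation "𝟙" => MonoidHom.id M
local notation "t" => l 34
local notation "u" => l 40

theorem le_of_norm {K : Type*} [Group K] [Finite K] {S L : Subgroup K} (hS : IsPGroup 2 S)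
    (h : ∀ g ∈ S, (∀ x ∈ S, x ∈ L ↔ g * x * g⁻¹ ∈ L) → g ∈ L) : S ≤ L := by
  have := Fact.mk Nat.prime_two
  have := hS.isNilpotent
  by_contra hn
  obtain ⟨g, h1, h2⟩ := SetLike.exists_of_lt (Group.normalizerCondition_of_isNilpotent
    (L.subgroupOf S) (lt_top_iff_ne_top.2 (mt subgroupOf_eq_top.1 hn)))
  exact h2 (h g g.2 fun x hx => mem_normalizer_iff.1 h1 ⟨x, hx⟩)

theorem sol' {G : Type*} [Group G] {ι : M →* G} (h : Function.Injective ι)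
    {as0 : List (List ℕ × List ℕ)} {cs : List (List ℕ)}
    (s : SolList ns (gen ns [[0], [2], [4], [6], [8]]) as0 [] cs)
    (ha : and' (allL as0 (fun p => and' (inK KA p.1) (inK KA p.2))) (allL cs (inK KA)) = true)
    {g : G} (hg : ∃ m, g = ι m) (hx : ∀ p ∈ as0, g * P ι p.1 = P ι p.2 * g) :
    ∃ c ∈ cs, g = P ι c := by
  obtain ⟨m, rfl⟩ := hg
  obtain ⟨c, hc, e⟩ := emb_id.sol s ha (g := m) (tc m) fun p hp => h (by
    rw [map_mul, map_mul, ← P_id, ← P_id, hx p hp])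
  exact ⟨c, hc, by rw [e, ← P_id]⟩

theorem d8c {c : List ℕ} (hc : c ∈ S6_cs) : IsConj (l 8) (P 𝟙 c) ∨
    (IsConj (l 8) (P 𝟙 c * l 64 * t) ∧ P 𝟙 c ∈ K0 ∧ (P 𝟙 c = 1 ∨ P 𝟙 c = t ∨ P 𝟙 c * P 𝟙 c = t)) := by
  simp only [S6_cs, List.mem_cons, List.not_mem_nil, or_false] at hc
  rcases hc with rfl | rfl | rfl | rfl | rfl | rfl | rfl | rfl
  exacts [.inr ⟨by
      change IsConj _ (1 * l 64 * t); rw [one_mul]; exact gcj 𝟙 [62, 0] [8] [64, 34], one_mem _, .inl rfl⟩, .inl (IsConj.refl _),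
    .inr ⟨gcj 𝟙 [62] [8] [8, 64, 8, 64, 64, 34], even_of _, .inr (.inl (gq 𝟙 _ [34]))⟩,
    .inl (gcj 𝟙 [0] [8] _), .inl (gcj 𝟙 [62] [8] _),
    .inr ⟨gcj 𝟙 [0] [8] [8, 64, 64, 34], even_of _, .inr (.inr ((gq2 𝟙 _ _ [34] []).trans (mul_one _)))⟩,
    .inl (gcj 𝟙 [62, 0] [8] _),
    .inr ⟨gcj 𝟙 [] [8] [64, 8, 64, 34], even_of _, .inr (.inr ((gq2 𝟙 _ _ [34] []).trans (mul_one _)))⟩]

variable {G : Type*} [Group G] {ι : M →* G} {r : G}

local notation "T" => ι (l 34)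
local notation "U" => ι (l 40)
local notation "Z" => ι (l 8)
local notation "Q" => ι (l 64)
local notation "A" => ι (l 60)
local notation "C" => ι (l 54)
local notation "Y6" => CA ι [42, 44, 46, 48]
local notation "Y7" => CA ι [42, 44, 46]
local notation "YA" => CA ι [42, 44, 46, 48, 50, 52]

theorem d8_mem {L : Subgroup G} (h1 : Z ∈ L) (h2 : Q ∈ L) {c : List ℕ} (hc : c ∈ S6_cs) :
    P ι c ∈ L := P_mem ι [8, 64] (by simpa using ⟨h1, h2⟩) c ((allL_iff _ _).1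
      (show allL S6_cs (fun v => allL v fun a => anyL [8, 64] (Nat.beq (Nat.mul 2 (Nat.div a 2)))) = true
        by decide +kernel) c hc)

theorem b24 (h : Function.Injective ι) {m : M} (hm : ι m ∈ Y7) :
    ∃ k, k ^ 3 = 1 ∧ ι k ∈ Y7 ∧ ∃ c ∈ S6_cs, ι m = ι k * P ι c := by
  obtain ⟨c, hc, e⟩ := sol' h S5 (by decide +kernel) ⟨m, rfl⟩ (by
    simpa [S5_as, P, lt_eq] using (show ∀ a ∈ [42, 44, 46], _ from hm))
  have := (allL_iff _ _).1 (show allL S5_cs (fun c => anyL [[], [54], [54, 54]] fun k =>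
    anyL S6_cs fun d => eqP E bs KA c (appendR k d)) = true by decide +kernel) c hc
  simp only [anyL_iff] at this
  obtain ⟨k, hk, d, hd, e1⟩ := this
  refine ⟨P 𝟙 k, ?_, ?_, d, hd, by rw [e, gq ι _ _ e1, appendR_eq, P_append, ← P_id]⟩ <;>
    simp only [List.mem_cons, List.not_mem_nil, or_false] at hk <;> rcases hk with rfl | rfl | rfl
  exacts [one_pow 3, gpow 𝟙 _ 3, gpow 𝟙 _ 3, P_id ι _ ▸ CA.of ι _ _, P_id ι _ ▸ CA.of ι _ _,
    P_id ι _ ▸ CA.of ι _ _]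

variable (ι) in
/-- a subgroup of index at most two of the centraliser of `A₅` -/
structure Hf (N : Subgroup G) : Prop where
  sq : ∀ y ∈ Y7, y * y ∈ N
  cj : ∀ y ∈ Y7, ∀ x ∈ N, y * x * y⁻¹ ∈ N
  rg : ∀ x ∈ Y7, x ∈ N → x * T = T * x → ∃ m, x = ι m

theorem Hf.odd {N : Subgroup G} (h : Hf ι N) {y : G} (hy : y ∈ Y7) (k : ℕ)
    (e : y ^ (2 * k + 1) = 1) : y ∈ N := by
  have := h.sq _ (pow_mem hy (k + 1))
  rwa [← pow_add, show k + 1 + (k + 1) = 2 * k + 1 + 1 by ring, pow_succ, e, one_mul] at this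

namespace E4

variable (h : E4 ι r)
include h

theorem r_mem {as : List ℕ}
    (e : allL as (fun a => and' (inK KA [a]) (Nat.beq (cd (evL E [a] 0)) 1)) = true := by
      decide +kernel) : r ∈ CA ι as := fun a ha =>
  h.rc _ (by
    have := even_of [a] ((allL_iff _ _).1 e a ha)
    rwa [show P 𝟙 [a] = l a from lt_eq 𝟙 a] at this)

theorem r_ne (m : M) : r ≠ ι m := fun e => by
  rcases h.st.triv (R_hom ι m) (e ▸ h.rR) with rfl | rfl <;> have := h.rr <;> rw [e] at this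
  · exact h.t1 (by simpa using this.symm)
  · exact h.t1 (this.symm.trans (tt ι))

theorem tau_sq : Z * Q * r * (Z * Q * r) = 1 := by
  have e : r * (Z * Q) = Z * Q * r := map_mul ι _ _ ▸ h.rc _ (even_of [8, 64])
  rw [mul_assoc _ r, ← mul_assoc r, e, mul_assoc _ r, h.rr, ← mul_assoc]
  exact (P_append ι [8, 64] [8, 64]).symm ▸ (gq2 ι _ [34] [] []).trans (one_mul 1)

theorem tau_not : ¬ IsConj (Z * Q * r) T := map_mul ι _ _ ▸ h.st.no2B h.rR
  ((gq2 𝟙 [8, 64] [8, 64] [34] []).trans (mul_one _))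

theorem inv_d8 (hz : IsConj Z T) {c : List ℕ} (hc : c ∈ S6_cs) (h1 : P ι c ≠ 1)
    (h2 : P ι c * P ι c = 1) : IsConj (P ι c) T := by
  rw [P_id] at *
  rcases d8c hc with e | ⟨-, -, e | e | e⟩
  · exact (ι.map_isConj e).symm.trans hz
  · exact absurd (by rw [e, map_one]) h1
  · rw [e]
  · exact absurd (by rw [← e, map_mul, h2]) h.t1

variable {ρ : G} (r1 : ρ * ι (l 34) * ρ⁻¹ = ι (l 8)) (r2 : ρ * ι (l 8) * ρ⁻¹ = ι (l 34) * ι (l 8))
  (r3 : ρ ∈ CA ι [42, 44, 46, 48, 50, 52])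
include r1 r3

theorem exists_hf [Finite G] : ∃ N, Hf ι N := by
  have := Fact.mk Nat.prime_two
  have hz := (isConj_of r1).symm
  have d8 : ∀ m, ι m ∈ Y6 → ∃ c ∈ S6_cs, ι m = P ι c := fun m hm =>
    sol' h.inj S6 (by decide +kernel) ⟨m, rfl⟩ (by
      simpa [S6_as, P, lt_eq] using (show ∀ a ∈ [42, 44, 46, 48], _ from hm))
  let F := (CA ι [34, 42, 44, 46, 48]).subgroupOf Y7
  have rg : ∀ {g}, g * T = T * g → ∃ m, g = ι m ∨ g * r⁻¹ = ι m := fun hg =>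
    (h.cen _ hg).imp fun m e => e.imp id fun e => by rw [e, mul_inv_cancel_right]
  have hF : IsPGroup 2 F := fun g => ⟨3, Subtype.ext (Subtype.ext (by
    obtain ⟨m, e⟩ : ∃ m, (g : G) * g = ι m := by
      obtain ⟨m, e | e⟩ := h.cen g (g.2 34 (by simp)) <;> rw [e]
      · exact ⟨_, (map_mul ι _ _).symm⟩
      · rw [mul_assoc, ← mul_assoc r]
        by_cases hm : m ∈ K0
        · exact ⟨m * m * t, by rw [h.rc _ hm, mul_assoc, h.rr, map_mul, map_mul, mul_assoc]⟩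
        · exact ⟨m * m, by rw [h.ro hm, mul_assoc, h.rr, mul_assoc, tt, mul_one, map_mul]⟩
    obtain ⟨c, hc, f⟩ := d8 m (e ▸ CA.mono (by simp) (mul_mem g.2 g.2))
    change (g : G) ^ (2 * 4) = 1
    rw [pow_mul, pow_two, e, f]
    exact gpow ι c 4 ((allL_iff _ _).1 (show allL S6_cs (fun c => eqP E bs KA (powW c 4) []) = true by
      decide +kernel) c hc)))⟩
  obtain ⟨S, hS⟩ := hF.exists_le_sylow
  let s : Y7 := ⟨r, h.r_mem⟩
  have sS : s ∈ (S : Subgroup Y7) := hS (show r ∈ CA ι _ from h.r_mem)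
  have dec : ∀ {N : Subgroup Y7} (m) (hm : ι m ∈ Y7), (∀ k : Y7, k ^ 3 = 1 → ∀ c, c ∈ F →
      ⟨_, hm⟩ = k * c → k ∈ N) → (⟨Z, CA.of ι _ [8]⟩ : Y7) ∈ N → (⟨Q, CA.of ι _ [64]⟩ : Y7) ∈ N →
      ⟨_, hm⟩ ∈ N := fun {N} m hm h1 h2 h3 => by
    obtain ⟨k, k3, k7, c, hc, e⟩ := b24 h.inj hm
    obtain ⟨y, y1, y2⟩ := d8_mem (L := (N ⊓ F).map (Y7).subtype)
      ⟨_, ⟨h2, CA.of ι _ [8]⟩, rfl⟩ ⟨_, ⟨h3, CA.of ι _ [64]⟩, rfl⟩ hc
    have e1 : (⟨_, hm⟩ : Y7) = ⟨_, k7⟩ * y := Subtype.ext (e.trans (congrArg _ y2.symm))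
    exact e1 ▸ mul_mem (h1 _ (Subtype.ext (by rw [coe_pow, ← map_pow, k3, map_one]; rfl)) y y1.2 e1) y1.1
  have p1 : ∀ x ∈ (S : Subgroup Y7), (x : G) * T = T * x → x ∈ F := fun x hx e => by
    have k : ∀ m (hm : ι m ∈ Y7), ⟨_, hm⟩ ∈ (S : Subgroup Y7) → ⟨_, hm⟩ ∈ F := fun m hm e =>
      dec m hm (fun k k3 c hc f => by
        obtain ⟨n, hn⟩ := S.2 ⟨k, (mul_mem_cancel_right (hS hc)).1 (f ▸ e)⟩
        rw [orderOf_eq_one_iff.1 (Nat.eq_one_of_dvd_coprimes (Nat.Coprime.pow_right n (by decide))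
          (orderOf_dvd_of_pow_eq_one k3) (orderOf_dvd_of_pow_eq_one (congrArg Subtype.val hn)))]
        exact one_mem _) (CA.of ι _ [8]) (CA.of ι _ [64])
    obtain ⟨m, f | f⟩ := rg e
    · exact (Subtype.ext f : x = ⟨_, f ▸ x.2⟩) ▸ k m (f ▸ x.2) ((Subtype.ext f : x = ⟨_, f ▸ x.2⟩) ▸ hx)
    · have f0 : ι m ∈ Y7 := f ▸ mul_mem x.2 (inv_mem s.2)
      have f1 : x * s⁻¹ = ⟨_, f0⟩ := Subtype.ext f
      exact (mul_mem_cancel_right (inv_mem (show s ∈ F from h.r_mem))).1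
        (f1 ▸ k m _ (f1 ▸ mul_mem hx (inv_mem sS)))
  let τ : Y7 := ⟨T, CA.of ι _ [34]⟩
  have p2 : (S : Subgroup Y7) ≤ centralizer {τ} := le_of_norm S.2 fun g hg H => by
    simp only [mem_centralizer_singleton_iff, Subtype.ext_iff, coe_mul, coe_inv] at H ⊢
    have τS : τ ∈ (S : Subgroup Y7) := hS (CA.of ι _ [34])
    have a1 := (H τ τS).1 rfl
    have a2 := p1 _ (mul_mem (mul_mem hg τS) (inv_mem hg)) a1
    have a3 := cj_comm (g : G) ((H (g⁻¹ * s * g) (mul_mem (mul_mem (inv_mem hg) sS) hg)).2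
      (by simpa [mul_assoc] using h.rT))
    simp only [coe_mul, coe_inv] at a3
    rw [show (g : G) * ((g : G)⁻¹ * s * g) * (g : G)⁻¹ = r by change _ = (s : G); group] at a3
    obtain ⟨m, hm, e⟩ := h.act a1
    have me : m ∈ K0 := by_contra fun f => h.t1 (by
      have := h.rodd hm f
      rw [a3, mul_inv_cancel_right] at this
      exact mul_eq_left.1 this.symm)
    have a4 : (g : G) * T * g⁻¹ * (g * T * g⁻¹) = 1 := Inv.conj_mul_self (tt ι) _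
    rw [← mul_inv_eq_iff_eq_mul]
    change (g : G) * T * g⁻¹ = T
    change (g : G) * T * g⁻¹ = _ ∨ (g : G) * T * g⁻¹ = _ at e
    rcases e with e | e
    · obtain ⟨c, hc, f⟩ := d8 m (e ▸ CA.mono (by simp) a2)
      rw [P_id] at f
      rcases d8c hc with k | ⟨-, -, k | k | k⟩ <;> rw [← h.inj f] at k
      · exact absurd (even_of_conj k.symm me) z_odd
      · exact absurd (by simpa [k] using e) h.t1
      · rw [e, k]
      · exact absurd (by rw [← k, map_mul, ← e, a4]) h.t1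
    · rcases h.sq_r (e ▸ a4) with ⟨-, f⟩ | ⟨f, -⟩
      · exact absurd (e ▸ (isConj_of rfl).symm) (h.st.no2B h.rR f)
      · exact absurd me f
  have p3 : ∀ x ∈ (S : Subgroup Y7), (x : G) * T = T * x := fun x hx =>
    congrArg Subtype.val (mem_centralizer_singleton_iff.1 (p2 hx))
  have n1 : Z * Q * r ∉ ι.range := fun ⟨m, e⟩ => h.r_ne ((l 8 * l 64)⁻¹ * m) (by
    rw [map_mul, map_inv, map_mul, e]; group)
  rcases S0111.result S (S ⊓ ι.range.subgroupOf Y7) inf_le_left (relIndex_eq_two_iff.2 ⟨s, sS,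
      fun b hb => by
        obtain ⟨m, e | e⟩ := h.cen _ (p3 b hb)
        · exact .inr ⟨⟨hb, m, e.symm⟩, fun ⟨_, n, f⟩ => h.r_ne (m⁻¹ * n) (by
            rw [map_mul, map_inv, f, ← e]; exact (inv_mul_cancel_left _ _).symm)⟩
        · exact .inl ⟨⟨mul_mem hb sS, m * t, by
            change _ = (b : G) * r
            rw [e, mul_assoc, h.rr, map_mul]⟩, fun ⟨_, n, f⟩ => h.r_ne (m⁻¹ * n) (by
            rw [map_mul, map_inv, f]; exact (eq_inv_mul_iff_mul_eq.2 e.symm))⟩⟩)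
    (⟨Z, CA.of ι _ [8]⟩ * ⟨Q, CA.of ι _ [64]⟩ * s) (orderOf_eq_prime (Subtype.ext
      ((pow_two _).trans h.tau_sq)) fun e => n1 ⟨1, (map_one ι).trans (congrArg Subtype.val e).symm⟩)
    (mul_mem (mul_mem (hS (CA.of ι _ [8])) (hS (CA.of ι _ [64]))) sS) (fun e => n1 e.2) with
    ⟨N, hN, i2, n2⟩ | ⟨g, g1, m, g2⟩
  · refine ⟨N.map (Y7).subtype, fun y hy => ⟨_, N.mul_self_mem_of_index_two i2 ⟨y, hy⟩, rfl⟩, ?_, ?_⟩
    · rintro y hy _ ⟨x, hx, rfl⟩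
      exact ⟨_, hN.conj_mem x hx ⟨y, hy⟩, rfl⟩
    · rintro _ - ⟨x, hx, rfl⟩ e
      obtain ⟨m, f | f⟩ := rg e
      · exact ⟨m, f⟩
      have τN : τ ∈ N := (Subtype.ext h.rr : s * s = τ) ▸ N.mul_self_mem_of_index_two i2 s
      obtain ⟨σ, s1, s2⟩ := exists_sigma r1 r3
      have zN : (⟨Z, CA.of ι _ [8]⟩ : Y7) ∈ N :=
        by convert hN.conj_mem τ τN ⟨ρ, CA.mono (by simp) r3⟩ using 1; exact Subtype.ext r1.symm
      have qN : (⟨Q, CA.of ι _ [64]⟩ : Y7) ∈ N :=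
        by convert hN.conj_mem τ τN ⟨σ, CA.mono (by simp) s1⟩ using 1; exact Subtype.ext s2.symm
      have f0 : ι m ∈ Y7 := f ▸ mul_mem x.2 (inv_mem s.2)
      have f1 : x * s⁻¹ = ⟨_, f0⟩ := Subtype.ext f
      have := dec m f0 (fun k k3 _ _ _ => mem_of_odd i2 1 k3) zN qN
      rw [← f1, mul_mem_cancel_left hx, inv_mem_iff] at this
      exact absurd (mul_mem (mul_mem zN qN) this) n2
  · exfalso
    change ι m = g * (Z * Q * r) * g⁻¹ at g2
    obtain ⟨c, hc, f⟩ := d8 m (g2 ▸ CA.mono (by simp) (p1 _ g1 (p3 _ g1)))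
    exact h.tau_not ((isConj_of (g2.symm.trans f)).trans (h.inv_d8 hz hc
      (by rw [← f, g2]; exact fun e => n1 (conj_eq_one_iff.1 e ▸ one_mem _))
      (by rw [← f, g2]; exact Inv.conj_mul_self h.tau_sq _)))

include r2 in
theorem not_zr : ¬ IsConj (Z * r) T := fun hr => by
  have hz := (isConj_of r1).symm
  have s1 := CA.conj r3 [62] (bs := [42, 44, 46, 48]) [[43, 47, 44, 48], [44, 43, 49, 46],
    [42, 45, 47, 49, 42], [42, 44, 47, 48, 45]]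
  have q : ι (l 62) * Z * (ι (l 62))⁻¹ = Q := gq ι [62, 8, 63] [64]
  have e : ∀ x, ι (l 62) * ρ * (ι (l 62))⁻¹ * (ι (l 62) * x * (ι (l 62))⁻¹) *
      (ι (l 62) * ρ * (ι (l 62))⁻¹)⁻¹ = ι (l 62) * (ρ * x * ρ⁻¹) * (ι (l 62))⁻¹ := fun x => by group
  have s2 := e T
  have s3 := e Z
  rw [r1, q, t_cen, mul_inv_cancel_right] at s2
  rw [r2, q, ← conj_mul (a := T), q, t_cen, mul_inv_cancel_right] at s3
  change ι (l 62) * ρ * (ι (l 62))⁻¹ ∈ _ at s1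
  generalize ι (l 62) * ρ * (ι (l 62))⁻¹ = σ at s1 s2 s3
  have qo : l 64 ∉ K0 := fun e => z_odd (even_of_conj (gcj 𝟙 [62] [8] [64]).symm e)
  have c1 : Commute (Z * Q * r) T := Commute.mul_left (map_mul ι _ _ ▸ t_cen ι _) h.rT
  have c2 : Commute (Z * Q * r) Q := by
    change _ = _
    rw [mul_assoc _ r, h.ro qo, ← mul_assoc, ← mul_assoc, ← mul_assoc, ← mul_assoc, mul_left_inj]
    exact gq ι [8, 64, 64, 34] [64, 8, 64]
  have c3 : Commute (σ * (Z * Q * r) * σ⁻¹) Q := by have := cj_comm σ c1; rwa [s2] at this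
  have c4 : Commute (σ * (Z * Q * r) * σ⁻¹) (T * Q) := by have := cj_comm σ c2; rwa [s3] at this
  have c5 : σ * (Z * Q * r) * σ⁻¹ ∈ Y6 :=
    mul_mem (mul_mem s1 (mul_mem (CA.of ι _ [8, 64]) h.r_mem)) (inv_mem s1)
  have d8 : ∀ m, ι m ∈ Y6 → ∃ c ∈ S6_cs, ι m = P ι c := fun m hm =>
    sol' h.inj S6 (by decide +kernel) ⟨m, rfl⟩ (by
      simpa [S6_as, P, lt_eq] using (show ∀ a ∈ [42, 44, 46, 48], _ from hm))
  obtain ⟨m, f | f⟩ := h.cen _ (by simpa using (c4.mul_right c3.inv_right).eq)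
  · obtain ⟨c, hc, k⟩ := d8 m (f ▸ c5)
    exact h.tau_not ((isConj_of (f.trans k)).trans (h.inv_d8 hz hc (by
      rw [← k, ← f]
      exact fun e => h.r_ne (l 8 * l 64)⁻¹ (by
        rw [map_inv, map_mul]; exact eq_inv_of_mul_eq_one_right (conj_eq_one_iff.1 e)))
      (by rw [← k, ← f]; exact Inv.conj_mul_self h.tau_sq _)))
  · obtain ⟨c, hc, k⟩ := d8 m ((mul_mem_cancel_right h.r_mem).1 (f ▸ c5))
    rw [P_id] at k
    rcases d8c hc with a | ⟨a, -⟩ <;> rw [← h.inj k] at a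
    · exact h.tau_not ((isConj_of f).trans ((h.cj_r z_odd a).symm.trans hr))
    · refine h.st.no2B (j := l 8 * l 64) (h.rR.mul1 h.st.rT)
        ((gq2 𝟙 [8, 64] [8, 64] [34] []).trans (mul_one _))
        ((isConj_of (g := σ) ?_).trans ((h.cj_r z_odd a).symm.trans hr))
      rw [← mul_assoc _ r, map_mul, ← conj_mul, f, s2, mul_assoc, h.ro qo, map_mul, map_mul]; group

include r2 in
theorem range {x : G} (hx : IsConj x T) (hc : x * T = T * x) : ∃ m, x = ι m := by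
  obtain ⟨m, hm, rfl | rfl⟩ := h.act hc
  · exact ⟨m, rfl⟩
  exfalso
  have xx := sq_of_isConj hx (tt ι)
  have hr := h.not_zr r1 r2 r3
  have hw := h.not_wr hr (.inl ⟨(isConj_of r1).symm, fun e => h.st.not_conj
    ((conj_w (ρ := ρ⁻¹) (by rw [← r1]; group) (inv_mem r3)).symm.trans e)⟩)
  rcases h.sq_r xx with ⟨-, e⟩ | ⟨mo, mm⟩
  · exact h.st.no2B h.rR e hx
  obtain ⟨g, hg⟩ := emb_id.cls (tc m) mm fun e => mo (e ▸ one_mem _)
  have c := (h.cj_r mo (isConj_of (g := g) rfl)).symm.trans hx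
  have n : g * m * g⁻¹ ∉ K0 := fun e => mo (even_of_conj (isConj_of rfl).symm e)
  change g * m * g⁻¹ = t ∨ g * m * g⁻¹ = u ∨ g * m * g⁻¹ = t * u ∨ g * m * g⁻¹ = l 8 ∨
    g * m * g⁻¹ = l 60 * l 8 at hg
  rcases hg with e | e | e | e | e <;> rw [e] at n c
  exacts [n t_even, n u_even, n (mul_mem t_even u_even), hr c, hw (map_mul ι _ _ ▸ c)]

end E4

end Cfsg.Agent.HNS
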